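import Cfsg.Agent.Suzuki2.ClassTwo

/-!
The order and exponent of a Suzuki 2-group.
-/

set_option autoImplicit false

namespace Cfsg.Agent.Suzuki2

open Subgroup
open scoped commutatorElement

universe u

variable {P : Type u} [Group P]

theorem zmod_two_cases : ∀ c : ZMod 2, c = 0 ∨ c = 1 := by decide

/-- Chevalley–Warning over two elements: a nontrivial common zero. -/
theorem exists_common_zero {d m : ℕ} (p : Fin m → MvPolynomial (Fin d) (ZMod 2))
    (hdeg : ∑ j, (p j).totalDegree < d) (h0 : ∀ j, MvPolynomial.eval 0 (p j) = 0) :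
    ∃ x : Fin d → ZMod 2, x ≠ 0 ∧ ∀ j, MvPolynomial.eval x (p j) = 0 := by
  haveI : Fact (Nat.Prime 2) := ⟨Nat.prime_two⟩
  classical
  by_contra hne
  have hdvd := char_dvd_card_solutions_of_sum_lt (K := ZMod 2) 2 (s := Finset.univ) (f := p)
    (lt_of_lt_of_eq hdeg (Fintype.card_fin d).symm)
  have hall : ∀ x : Fin d → ZMod 2, (∀ j ∈ (Finset.univ : Finset (Fin m)), MvPolynomial.eval x (p j) = 0) → x = 0 :=
    fun x hx => by_contra fun hx0 => hne ⟨x, hx0, fun j => hx j (Finset.mem_univ _)⟩
  have hone : Nat.card {x : Fin d → ZMod 2 // ∀ j ∈ (Finset.univ : Finset (Fin m)), MvPolynomial.eval x (p j) = 0} = 1 :=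
    Nat.card_eq_one_iff_exists.2 ⟨⟨0, fun j _ => h0 j⟩, fun y => Subtype.ext (hall y.1 y.2)⟩
  have key : ∀ inst : Fintype {x : Fin d → ZMod 2 // ∀ j ∈ (Finset.univ : Finset (Fin m)), MvPolynomial.eval x (p j) = 0},
      @Fintype.card _ inst = 1 := fun inst => (@Nat.card_eq_fintype_card _ inst).symm.trans hone
  exact absurd (hdvd.trans (dvd_of_eq (key _))) (by norm_num)

theorem mul_self_mem_center (D : Setup P) (x : P) : x * x ∈ center P :=
  ((lay_center_eq_top D).symm ▸ mem_top x : x ∈ lay (center P)).1

theorem comm_mem_center (D : Setup P) (x y : P) : ⁅x, y⁆ ∈ center P :=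
  ((lay_center_eq_top D).symm ▸ mem_top x : x ∈ lay (center P)).2 y

theorem exponent_eq_four (D : Setup P) : Monoid.exponent P = 4 := by
  obtain ⟨a, b, hab⟩ := D.nc
  have h2 : a * a ≠ 1 := fun h => hab ((mem_center_iff.1 (D.inv_center a h) b).symm)
  have h4 : ∀ x : P, x ^ 4 = 1 := fun x => by
    rw [show x ^ 4 = (x * x) * (x * x) by simp [pow_succ, mul_assoc]]
    exact D.center_exp _ (mul_self_mem_center D x)
  refine Nat.dvd_antisymm (Monoid.exponent_dvd_of_forall_pow_eq_one h4) ?_
  have : Fact (Nat.Prime 2) := ⟨Nat.prime_two⟩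
  have ho : orderOf a = 2 ^ (1 + 1) := orderOf_eq_prime_pow (by simpa [pow_two] using h2) (h4 a)
  exact (show 4 = orderOf a by rw [ho]; rfl) ▸ Monoid.order_dvd_exponent a

/-- The order is the square or the cube of that of the centre. -/
theorem card_eq (D : Setup P) : Nat.card P = Nat.card (center P) ^ 2 ∨ Nat.card P = Nat.card (center P) ^ 3 := by
  classical
  haveI := D.fin
  have : Fact (Nat.Prime 2) := ⟨Nat.prime_two⟩
  obtain ⟨F, _, _, _, n, L, ω, hn, hq, hE, hω0, hgen, hLmul, hLk, hL0, hLs⟩ := exists_field D
  have hL1 : L 1 = 0 := by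
    have := hLmul 1 (one_mem _) 1 (one_mem _)
    rwa [mul_one, left_eq_add] at this
  set Z := center P with hZ
  let q : P → F := fun x => L (x * x)
  have hqmul : ∀ x y, q (x * y) = q x + q y + L ⁅y, x⁆ := fun x y => by
    have hc := comm_mem_center D y x
    have e : x * y * (x * y) = ⁅y, x⁆ * ((x * x) * (y * y)) := by
      calc x * y * (x * y) = x * ⁅y, x⁆ * (x * y * y) := by simp only [commutatorElement_def]; group
        _ = ⁅y, x⁆ * x * (x * y * y) := by rw [mem_center_iff.1 hc x]
        _ = _ := by simp only [mul_assoc]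
    show L (x * y * (x * y)) = _
    rw [e, hLmul _ hc _ (mul_mem (mul_self_mem_center D x) (mul_self_mem_center D y)),
      hLmul _ (mul_self_mem_center D x) _ (mul_self_mem_center D y)]
    ring
  have hqz : ∀ (x : P), ∀ z ∈ Z, q (x * z) = q x := fun x z hz => by
    rw [hqmul, commutatorElement_eq_one_iff_commute.2 (mem_center_iff.1 hz x).symm, hL1,
      show q z = 0 by show L (z * z) = 0; rw [D.center_exp z hz, hL1], add_zero, add_zero]
  have hq0 : ∀ x, q x = 0 → x ∈ Z := fun x h => D.inv_center x (hL0 _ (mul_self_mem_center D x) h)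
  haveI : IsMulCommutative (P ⧸ Z) := ⟨⟨fun u v => by
    induction u using QuotientGroup.induction_on with | H x => ?_
    induction v using QuotientGroup.induction_on with | H y => ?_
    rw [← QuotientGroup.mk_mul, ← QuotientGroup.mk_mul, QuotientGroup.eq]
    have := comm_mem_center D y⁻¹ x⁻¹
    simpa [commutatorElement_def, mul_assoc] using this⟩⟩
  letI : CommGroup (P ⧸ Z) := { (inferInstance : Group (P ⧸ Z)) with mul_comm := fun a b => (IsMulCommutative.is_comm (M := P ⧸ Z)).comm a b }
  let V := Additive (P ⧸ Z)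
  haveI : Finite V := inferInstanceAs (Finite (P ⧸ Z))
  letI : Module (ZMod 2) V := AddCommGroup.zmodModule (n := 2) fun v => by
    show (v.toMul : P ⧸ Z) ^ 2 = 1
    induction v.toMul using QuotientGroup.induction_on with
    | H x => exact (QuotientGroup.eq_one_iff _).2 (by show x ^ 2 ∈ Z; rw [pow_two]; exact mul_self_mem_center D x)
  let Q : V → F := fun v => Quotient.liftOn' v.toMul q fun a b hab => by
    have hab' := QuotientGroup.leftRel_apply.1 hab
    have := hqz a _ hab'
    rw [mul_inv_cancel_left] at this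
    exact this.symm
  have hQ : ∀ x : P, Q (Additive.ofMul (QuotientGroup.mk x : P ⧸ Z)) = q x := fun x => rfl
  let Bf : V → V → F := fun v w => Q (v + w) + Q v + Q w
  have hBf : ∀ x y : P, Bf (Additive.ofMul (QuotientGroup.mk x : P ⧸ Z)) (Additive.ofMul (QuotientGroup.mk y : P ⧸ Z))
      = L ⁅y, x⁆ := fun x y => by
    show q (x * y) + q x + q y = _
    rw [hqmul]
    linear_combination (q x + q y) * CharTwo.two_eq_zero (R := F)
  have hBadd : ∀ u v w : V, Bf (u + v) w = Bf u w + Bf v w := by
    intro u v w
    induction u using QuotientGroup.induction_on with | H x => ?_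
    induction v using QuotientGroup.induction_on with | H y => ?_
    induction w using QuotientGroup.induction_on with | H z => ?_
    show Bf (Additive.ofMul (QuotientGroup.mk (x * y) : P ⧸ Z)) (Additive.ofMul (QuotientGroup.mk z : P ⧸ Z)) =
      Bf (Additive.ofMul (QuotientGroup.mk x : P ⧸ Z)) (Additive.ofMul (QuotientGroup.mk z : P ⧸ Z)) +
        Bf (Additive.ofMul (QuotientGroup.mk y : P ⧸ Z)) (Additive.ofMul (QuotientGroup.mk z : P ⧸ Z))
    rw [hBf, hBf, hBf, Cfsg.Agent.RankOne.comm_mul_right_of_central (comm_mem_center D z y),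
      hLmul _ (comm_mem_center D z x) _ (comm_mem_center D z y)]
  have hQadd : ∀ v w, Q (v + w) = Q v + Q w + Bf v w := fun v w => by
    show _ = Q v + Q w + (Q (v + w) + Q v + Q w)
    linear_combination -(Q v + Q w) * CharTwo.two_eq_zero (R := F)
  have hQ00 : Q 0 = 0 := by
    show q 1 = 0
    show L (1 * 1) = 0
    rw [one_mul, hL1]
  have hQ0 : ∀ v, Q v = 0 → v = 0 := fun v hv => by
    induction v using QuotientGroup.induction_on with | H x => ?_
    exact (QuotientGroup.eq_one_iff x).2 (hq0 x hv)
  set d := Module.finrank (ZMod 2) V with hd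
  let b := Module.finBasis (ZMod 2) V
  have hVd : Nat.card V = 2 ^ d := by
    rw [Module.natCard_eq_pow_finrank (K := ZMod 2), Nat.card_zmod]
  letI : Algebra (ZMod 2) F := ZMod.algebra F 2
  let bF := Module.finBasis (ZMod 2) F
  have hnF : Module.finrank (ZMod 2) F = n := by
    have h := Module.natCard_eq_pow_finrank (K := ZMod 2) (V := F)
    rw [Nat.card_zmod, Nat.card_eq_fintype_card, hq] at h
    exact (Nat.pow_right_injective le_rfl h).symm
  -- quadratic polynomials
  have hpoly : ∀ (j : Fin (Module.finrank (ZMod 2) F)) (s : Finset (Fin d)),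
      ∃ p : MvPolynomial (Fin d) (ZMod 2), p.totalDegree ≤ 2 ∧
        ∀ x : Fin d → ZMod 2, MvPolynomial.eval x p = bF.repr (Q (∑ i ∈ s, x i • b i)) j := by
    intro j s
    induction s using Finset.induction with
    | empty => exact ⟨0, by simp, fun x => by simp [hQ00]⟩
    | @insert i s his ih =>
      obtain ⟨p, hp, hpe⟩ := ih
      refine ⟨p + MvPolynomial.C (bF.repr (Q (b i)) j) * MvPolynomial.X i +
        ∑ l ∈ s, MvPolynomial.C (bF.repr (Bf (b l) (b i)) j) * (MvPolynomial.X l * MvPolynomial.X i), ?_, fun x => ?_⟩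
      · refine (MvPolynomial.totalDegree_add _ _).trans (max_le ((MvPolynomial.totalDegree_add _ _).trans
          (max_le hp ?_)) (MvPolynomial.totalDegree_finsetSum_le fun l _ => ?_))
        · exact (MvPolynomial.totalDegree_mul _ _).trans (by simp)
        · exact (MvPolynomial.totalDegree_mul _ _).trans (by
            simpa using (MvPolynomial.totalDegree_mul (MvPolynomial.X l) (MvPolynomial.X i :
              MvPolynomial (Fin d) (ZMod 2))).trans (by simp))
      · let g : V →+ F := AddMonoidHom.mk' (fun v => Bf v (b i)) fun u v => hBadd u v (b i)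
        have hB : Bf (∑ l ∈ s, x l • b l) (x i • b i) =
            x i • ∑ l ∈ s, x l • Bf (b l) (b i) := by
          obtain h | h : x i = 0 ∨ x i = 1 := zmod_two_cases (x i)
          · rw [h, zero_smul, zero_smul]
            show Q (_ + 0) + Q _ + Q 0 = 0
            rw [add_zero, hQ00, add_zero, CharTwo.add_self_eq_zero]
          · rw [h, one_smul, one_smul]
            show g _ = _
            rw [map_sum]
            refine Finset.sum_congr rfl fun l _ => ?_
            obtain h | h : x l = 0 ∨ x l = 1 := zmod_two_cases (x l)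
            · rw [h, zero_smul, zero_smul, map_zero]
            · rw [h, one_smul, one_smul]; rfl
        have hQi : Q (x i • b i) = x i • Q (b i) := by
          obtain h | h : x i = 0 ∨ x i = 1 := zmod_two_cases (x i)
          · rw [h, zero_smul, zero_smul, hQ00]
          · rw [h, one_smul, one_smul]
        rw [Finset.sum_insert his, add_comm (x i • b i), hQadd, hB, hQi]
        simp only [map_add, map_mul, MvPolynomial.eval_C, MvPolynomial.eval_X, map_sum, hpe, map_smul,
          Finsupp.add_apply, Finsupp.smul_apply, smul_eq_mul, Finset.mul_sum, Finsupp.finsetSum_apply]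
        congr 1
        · rw [mul_comm (x i)]
        · exact Finset.sum_congr rfl fun l _ => by ring
  choose p hp hpe using fun j => hpoly j Finset.univ
  have hd2 : d ≤ 2 * n := by
    by_contra hgt
    obtain ⟨x, hx0, hx⟩ := exists_common_zero p (lt_of_le_of_lt
      (le_trans (Finset.sum_le_sum fun j _ => hp j) (by
        rw [Finset.sum_const, Finset.card_univ, Fintype.card_fin, smul_eq_mul, hnF, mul_comm]))
      (not_le.1 hgt)) (fun j => by rw [hpe]; simp [hQ00])
    have h0 : Q (∑ i, x i • b i) = 0 := bF.repr.injective (Finsupp.ext fun j => by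
      rw [← hpe j x, hx j, map_zero, Finsupp.zero_apply])
    exact hx0 (funext fun i => Fintype.linearIndependent_iff.1 b.linearIndependent x (hQ0 _ h0) i)
  -- the fibres over nonzero values have equal size
  have hdiv : 2 ^ n - 1 ∣ 2 ^ d - 1 := by
    letI : Fintype V := Fintype.ofFinite _
    let kV : V → V := fun v => Additive.ofMul (Quotient.liftOn' v.toMul (fun x => (QuotientGroup.mk (D.k x) : P ⧸ Z))
      fun a c hac => QuotientGroup.eq.2 (by
        rw [← map_inv, ← map_mul]
        exact kInv_center D _ (QuotientGroup.leftRel_apply.1 hac)))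
    have hkinj : Function.Injective kV := by
      intro u v h
      induction u using QuotientGroup.induction_on with | H x => ?_
      induction v using QuotientGroup.induction_on with | H y => ?_
      have h' : D.k x⁻¹ * D.k y ∈ Z := by
        rw [map_inv]; exact QuotientGroup.eq.1 (congrArg Additive.toMul h)
      rw [← map_mul] at h'
      obtain ⟨z, hz, hzk⟩ := (kInv_center D).surj D h'
      exact QuotientGroup.eq.2 (D.k.injective hzk ▸ hz)
    have hkQ : ∀ v, Q (kV v) = ω * Q v := fun v => by
      induction v using QuotientGroup.induction_on with | H x => ?_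
      show L (D.k x * D.k x) = ω * L (x * x)
      rw [← map_mul, hLk _ (mul_self_mem_center D x)]
    let c : F → ℕ := fun t => (Finset.univ.filter fun v => Q v = t).card
    have hmono : ∀ t, c t ≤ c (ω * t) := fun t => Finset.card_le_card_of_injOn kV
      (fun v hv => by
        rw [Finset.mem_coe, Finset.mem_filter] at hv ⊢
        exact ⟨Finset.mem_univ _, by rw [hkQ, hv.2]⟩) hkinj.injOn
    have hpow : ∀ (j : ℕ) t, c t ≤ c (ω ^ j * t) := by
      intro j
      induction j with
      | zero => intro t; simp
      | succ j ih => intro t; exact (ih t).trans (by rw [pow_succ', mul_assoc]; exact hmono _)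
    have hconst : ∀ t, t ≠ 0 → c t = c 1 := fun t ht => by
      obtain ⟨j, hj⟩ := hgen t ht
      obtain ⟨l, hl⟩ := hgen t⁻¹ (inv_ne_zero ht)
      refine le_antisymm ?_ (by simpa [hj] using hpow j 1)
      have := hpow l t
      rwa [hl, inv_mul_cancel₀ ht] at this
    have hsum := Finset.card_eq_sum_card_fiberwise (s := (Finset.univ : Finset V)) (t := (Finset.univ : Finset F))
      (f := Q) fun v _ => Finset.mem_univ _
    rw [← Finset.add_sum_erase _ _ (Finset.mem_univ (0 : F))] at hsum
    have h0 : (Finset.univ.filter fun v => Q v = 0).card = 1 := by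
      rw [Finset.card_eq_one]
      exact ⟨0, Finset.ext fun v => by
        simp only [Finset.mem_filter, Finset.mem_univ, true_and, Finset.mem_singleton]
        exact ⟨hQ0 v, fun h => h ▸ hQ00⟩⟩
    rw [h0, Finset.sum_congr rfl (fun t ht => hconst t (Finset.ne_of_mem_erase ht)), Finset.sum_const, smul_eq_mul,
      Finset.card_erase_of_mem (Finset.mem_univ _), Finset.card_univ, Finset.card_univ, hq,
      ← Nat.card_eq_fintype_card, hVd] at hsum
    exact ⟨c 1, by omega⟩
  have hnd : n ∣ d := by
    have h := Nat.gcd_eq_left hdiv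
    rw [Nat.pow_sub_one_gcd_pow_sub_one] at h
    have h1 : 2 ^ Nat.gcd n d = 2 ^ n := by
      have := Nat.one_le_two_pow (n := Nat.gcd n d)
      have := Nat.one_le_two_pow (n := n)
      omega
    exact Nat.gcd_eq_left_iff_dvd.1 (Nat.pow_right_injective le_rfl h1)
  have hd0 : d ≠ 0 := fun h0 => by
    rw [h0, pow_zero, Nat.card_eq_one_iff_unique] at hVd
    obtain ⟨a, c, hac⟩ := D.nc
    have := hVd.1
    exact hac ((mem_center_iff.1 ((QuotientGroup.eq_one_iff a).1
      (congrArg Additive.toMul (Subsingleton.elim (Additive.ofMul (QuotientGroup.mk a : P ⧸ Z)) 0))) c).symm)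
  have hP : Nat.card P = 2 ^ d * 2 ^ n := by
    rw [Subgroup.card_eq_card_quotient_mul_card_subgroup Z, hE, ← hVd]
    rfl
  obtain ⟨e, he⟩ := hnd
  rw [hP, hE, he]
  rcases e with _ | _ | _ | e
  · exact absurd (by rw [he, mul_zero]) hd0
  · left; ring
  · right; ring
  · exfalso; rw [he] at hd2; nlinarith

end Cfsg.Agent.Suzuki2
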