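import Mathlib

/-!
Twisted-linear additive maps of a finite field of characteristic two: eigenvectors of the conjugation by
multiplication with a primitive element are Frobenius monomials, irreducible invariant families of additive maps
consist of monomials with one exponent, and the linear sections fixed by such a family are rigid.
-/

set_option autoImplicit false

namespace Cfsg.Agent.Suzuki2

open Polynomial

theorem pow_mod_eq {M : ℕ} {n : ℕ} (hM : M = 2 ^ n - 1) (hn : 0 < n) (a : ℕ) :
    2 ^ a ≡ 2 ^ (a % n) [MOD M] := by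
  have h1 : 2 ^ n ≡ 1 [MOD M] := by
    rw [hM]
    exact ((Nat.modEq_iff_dvd' (Nat.one_le_two_pow)).2 dvd_rfl).symm
  conv_lhs => rw [← Nat.div_add_mod a n, pow_add, pow_mul]
  simpa using (h1.pow (a / n)).mul_right (2 ^ (a % n))

theorem two_pow_add_ne {a b e : ℕ} (hab : a ≠ b) : 2 ^ a + 2 ^ b ≠ 2 ^ e := by
  wlog h : a < b generalizing a b
  · rw [add_comm]; exact this (Ne.symm hab) (by omega)
  intro he
  have h1 : 2 ^ b < 2 ^ e := he ▸ lt_add_of_pos_left _ (by positivity)
  have h2 : 2 ^ e < 2 ^ (b + 1) := by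
    rw [← he, pow_succ]
    have := Nat.pow_lt_pow_right (a := 2) one_lt_two h
    omega
  have := (Nat.pow_lt_pow_iff_right one_lt_two).1 h1
  have := (Nat.pow_lt_pow_iff_right one_lt_two).1 h2
  omega

theorem two_pow_add_inj {a b c d : ℕ} (hab : a < b) (hcd : c < d) (h : 2 ^ a + 2 ^ b = 2 ^ c + 2 ^ d) :
    a = c ∧ b = d := by
  have h1 := Nat.pow_lt_pow_right (a := 2) one_lt_two hab
  have h2 := Nat.pow_lt_pow_right (a := 2) one_lt_two hcd
  have e1 : 2 ^ b < 2 ^ (d + 1) := by
    rw [pow_succ]; have := Nat.two_pow_pos a; omega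
  have e2 : 2 ^ d < 2 ^ (b + 1) := by
    rw [pow_succ]; have := Nat.two_pow_pos c; omega
  have hbd : b = d := by
    have := (Nat.pow_lt_pow_iff_right one_lt_two).1 e1
    have := (Nat.pow_lt_pow_iff_right one_lt_two).1 e2
    omega
  subst hbd
  exact ⟨Nat.pow_right_injective le_rfl (by omega : 2 ^ a = 2 ^ c), rfl⟩

theorem range_two_pow_add {n a b : ℕ} (ha : a < n) (hb : b < n) (hab : a ≠ b) :
    1 ≤ 2 ^ a + 2 ^ b ∧ 2 ^ a + 2 ^ b ≤ 2 ^ n - 1 := by
  have := Nat.two_pow_pos a
  wlog h : a < b generalizing a b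
  · rw [add_comm]; exact this hb ha (Ne.symm hab) (Nat.two_pow_pos b) (by omega)
  have h1 := Nat.pow_lt_pow_right (a := 2) one_lt_two h
  have h2 : 2 ^ (b + 1) ≤ 2 ^ n := Nat.pow_le_pow_right two_pos hb
  rw [pow_succ] at h2
  omega

theorem eq_of_modEq_range {M x y : ℕ} (h : x ≡ y [MOD M]) (hx : 1 ≤ x) (hxM : x ≤ M) (hy : 1 ≤ y) (hyM : y ≤ M) :
    x = y := by
  rcases le_total x y with h' | h'
  · have := (Nat.modEq_iff_dvd' h').1 h
    have := Nat.eq_zero_of_dvd_of_lt this (by omega)
    omega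
  · have := (Nat.modEq_iff_dvd' h').1 h.symm
    have := Nat.eq_zero_of_dvd_of_lt this (by omega)
    omega

/-- Two distinct powers of two are never congruent to a single one. -/
theorem not_modEq_single {n a b e : ℕ} (ha : a < n) (hb : b < n) (hab : a ≠ b) :
    ¬ 2 ^ a + 2 ^ b ≡ 2 ^ e [MOD 2 ^ n - 1] := by
  intro h
  have hn : 0 < n := by omega
  have h' := h.trans (pow_mod_eq rfl hn e)
  obtain ⟨h1, h2⟩ := range_two_pow_add ha hb hab
  have hp := Nat.pow_le_pow_right two_pos (Nat.lt_iff_add_one_le.1 (Nat.mod_lt e hn) : e % n + 1 ≤ n)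
  rw [pow_succ] at hp
  have := Nat.two_pow_pos (e % n)
  exact two_pow_add_ne hab (eq_of_modEq_range h' h1 h2 (by omega) (by omega))

theorem pair_eq {n a b c d : ℕ} (ha : a < n) (hb : b < n) (hab : a ≠ b) (hc : c < n) (hd : d < n) (hcd : c ≠ d)
    (h : 2 ^ a + 2 ^ b ≡ 2 ^ c + 2 ^ d [MOD 2 ^ n - 1]) : (a = c ∧ b = d) ∨ (a = d ∧ b = c) := by
  obtain ⟨h1, h2⟩ := range_two_pow_add ha hb hab
  obtain ⟨h3, h4⟩ := range_two_pow_add hc hd hcd
  have e := eq_of_modEq_range h h1 h2 h3 h4
  rcases Nat.lt_or_gt_of_ne hab with h5 | h5 <;> rcases Nat.lt_or_gt_of_ne hcd with h6 | h6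
  · exact Or.inl (two_pow_add_inj h5 h6 e)
  · exact Or.inr (two_pow_add_inj h5 h6 (by omega))
  · exact Or.inr (two_pow_add_inj h5 h6 (by omega : 2 ^ b + 2 ^ a = 2 ^ c + 2 ^ d)).symm
  · exact Or.inl (two_pow_add_inj h5 h6 (by omega : 2 ^ b + 2 ^ a = 2 ^ d + 2 ^ c)).symm

variable {F : Type*} [Field F] [Fintype F] [CharP F 2] {n : ℕ}

theorem exists_pow_of_ringHom (hq : Fintype.card F = 2 ^ n) (hn : 0 < n) (φ : F →+* F) :
    ∃ i < n, ∀ x, φ x = x ^ 2 ^ i := by
  letI : Algebra (ZMod 2) F := ZMod.algebra F 2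
  let e : F ≃+* F := RingEquiv.ofBijective φ (Finite.injective_iff_bijective.1 φ.injective)
  let g : F ≃ₐ[ZMod 2] F := AlgEquiv.ofRingEquiv (f := e)
    (fun r => RingHom.congr_fun (Subsingleton.elim (φ.comp (algebraMap (ZMod 2) F)) (algebraMap (ZMod 2) F)) r)
  obtain ⟨i, hi⟩ := FiniteField.exists_forall_apply_eq_pow (k := ZMod 2) (p := 2) F g
  refine ⟨i % n, Nat.mod_lt _ hn, fun x => ?_⟩
  rw [show φ x = g x from rfl, hi, Nat.card_zmod]
  have hx : x ^ 2 ^ n = x := hq ▸ FiniteField.pow_card x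
  conv_lhs => rw [← Nat.mod_add_div i n, pow_add, pow_mul x, pow_mul]
  generalize x ^ 2 ^ (i % n) = y
  have hy : y ^ 2 ^ n = y := hq ▸ FiniteField.pow_card y
  induction i / n with
  | zero => simp
  | succ j ih => rw [pow_succ, pow_mul, ih, hy]

/-- A primitive element. -/
def Prim (l : F) : Prop := l ≠ 0 ∧ ∀ x : F, x ≠ 0 → ∃ j : ℕ, l ^ j = x

theorem Prim.modEq {l : F} (hl : Prim l) (hq : Fintype.card F = 2 ^ n) {a b : ℕ} (h : l ^ a = l ^ b) :
    a ≡ b [MOD 2 ^ n - 1] := by
  classical
  have ho : orderOf (Units.mk0 l hl.1) = 2 ^ n - 1 := by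
    rw [← hq, ← Fintype.card_units, orderOf_eq_card_of_forall_mem_zpowers]
    · exact Nat.card_eq_fintype_card
    intro u
    obtain ⟨j, hj⟩ := hl.2 u u.ne_zero
    exact ⟨j, Units.ext (by simpa using hj)⟩
  rw [← ho, ← pow_eq_pow_iff_modEq]
  exact Units.ext (by simpa using h)

variable {l : F}

/-- Eigenvectors of the twisted conjugation are monomials. -/
theorem eigen_monomial (hq : Fintype.card F = 2 ^ n) (hn : 0 < n) (hl : Prim l) {T : F →+ F} (hT : T ≠ 0)
    {μ : F} (h : ∀ e, l * T e = μ * T (l * e)) :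
    ∃ i < n, (∀ e, T e = T 1 * e ^ 2 ^ i) ∧ T 1 ≠ 0 ∧ μ * l ^ 2 ^ i = l := by
  have hμ : μ ≠ 0 := fun h0 => hT (AddMonoidHom.ext fun e => by
    have := h e
    rw [h0, zero_mul] at this
    simpa [hl.1] using this)
  set ν := l / μ with hν
  have hstep : ∀ (j : ℕ) e, T (l ^ j * e) = ν ^ j * T e := by
    intro j
    induction j with
    | zero => intro e; simp
    | succ j ih =>
      intro e
      rw [pow_succ, mul_assoc, ih, pow_succ, mul_assoc]
      congr 1
      rw [hν, div_mul_eq_mul_div, h, mul_div_cancel_left₀ _ hμ]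
  have h1 : T 1 ≠ 0 := fun h0 => hT (AddMonoidHom.ext fun e => by
    by_cases he : e = 0
    · rw [he, map_zero, map_zero]
    obtain ⟨j, rfl⟩ := hl.2 e he
    have := hstep j 1
    rw [mul_one, h0, mul_zero] at this
    rw [this]; rfl)
  have hmul : ∀ x e, T (x * e) * T 1 = T x * T e := by
    intro x e
    by_cases hx : x = 0
    · simp [hx]
    obtain ⟨j, rfl⟩ := hl.2 x hx
    have := hstep j 1
    rw [mul_one] at this
    rw [hstep, this]; ring
  let φ : F →+* F :=
    { toFun := fun x => T x / T 1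
      map_one' := div_self h1
      map_zero' := by simp
      map_add' := fun x y => by rw [map_add, add_div]
      map_mul' := fun x y => by
        rw [div_mul_div_comm, ← hmul, mul_div_mul_right _ _ h1] }
  obtain ⟨i, hi, hφ⟩ := exists_pow_of_ringHom hq hn φ
  have hTe : ∀ e, T e = T 1 * e ^ 2 ^ i := fun e => by
    rw [← hφ]
    show T e = T 1 * (T e / T 1)
    rw [mul_div_cancel₀ _ h1]
  refine ⟨i, hi, hTe, h1, mul_left_cancel₀ h1 ?_⟩
  have := h 1
  rw [mul_one, hTe l] at this
  linear_combination -this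

theorem two_pow_mul (a b : ℕ) (x : F) : (x ^ 2 ^ a) ^ 2 ^ b = x ^ 2 ^ (a + b) := by
  rw [← pow_mul, ← pow_add]

/-- Conjugate eigenvalues have equal exponents. -/
theorem exponent_eq_of_conj (hq : Fintype.card F = 2 ^ n) (hl : Prim l) {μ μ' : F} {i i' j : ℕ} (hi : i < n)
    (hi0 : i ≠ 0) (hi' : i' < n) (hi'0 : i' ≠ 0) (hμ : μ * l ^ 2 ^ i = l) (hμ' : μ' * l ^ 2 ^ i' = l)
    (hj : μ ^ 2 ^ j = μ') : i = i' := by
  have hn : 0 < n := by omega
  have e1 := congrArg (· ^ 2 ^ j) hμ
  simp only [mul_pow, hj, two_pow_mul] at e1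
  have e2 : l ^ (2 ^ j + 2 ^ i') = l ^ (1 + 2 ^ (i + j)) := by
    rw [pow_add, pow_add, pow_one, ← e1]
    linear_combination (l ^ 2 ^ (i + j)) * hμ'
  have h := hl.modEq hq e2
  have hR := (pow_mod_eq (M := 2 ^ n - 1) rfl hn (i + j)).add_left 1
  have hL := (pow_mod_eq (M := 2 ^ n - 1) rfl hn j).add_right (2 ^ i')
  have h' := hL.symm.trans (h.trans hR)
  have hjn := Nat.mod_lt j hn
  have hrn := Nat.mod_lt (i + j) hn
  by_cases hji : j % n = i'
  · rw [hji, ← two_mul, ← pow_succ'] at h'
    by_cases hr : (i + j) % n = 0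
    · rw [hr, pow_zero, show (1 : ℕ) + 1 = 2 ^ 1 from rfl] at h'
      have h2 := ((pow_mod_eq (M := 2 ^ n - 1) rfl hn (i' + 1)).symm.trans h').trans
        (pow_mod_eq (M := 2 ^ n - 1) rfl hn 1)
      have hp : ∀ x, x < n → 1 ≤ 2 ^ x ∧ 2 ^ x ≤ 2 ^ n - 1 := fun x hx => by
        have := Nat.pow_lt_pow_right (a := 2) one_lt_two hx
        exact ⟨Nat.one_le_two_pow, by omega⟩
      have h3 := Nat.pow_right_injective le_rfl (eq_of_modEq_range h2 (hp _ (Nat.mod_lt _ hn)).1
        (hp _ (Nat.mod_lt _ hn)).2 (hp _ (Nat.mod_lt _ hn)).1 (hp _ (Nat.mod_lt _ hn)).2)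
      exfalso
      have h4 : (i' + 1) ≡ 1 [MOD n] := h3
      have := Nat.ModEq.add_right_cancel' 1 (h4.trans (by rfl : (1 : ℕ) ≡ 0 + 1 [MOD n]))
      rw [Nat.ModEq, Nat.mod_eq_of_lt hi', Nat.zero_mod] at this
      exact hi'0 this
    · exact absurd h'.symm (not_modEq_single (a := 0) hn hrn (Ne.symm hr))
  · by_cases hr : (i + j) % n = 0
    · rw [hr, pow_zero, show (1 : ℕ) + 1 = 2 ^ 1 from rfl] at h'
      exact absurd h' (not_modEq_single hjn hi' hji)
    · rcases pair_eq hjn hi' hji hn hrn (Ne.symm hr) (by simpa using h') with ⟨h1, h2⟩ | ⟨-, h2⟩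
      · rw [h2, Nat.add_mod, h1, add_zero, Nat.mod_mod, Nat.mod_eq_of_lt hi]
      · exact absurd h2 hi'0

/-- Roots of one irreducible polynomial are Frobenius conjugates. -/
theorem exists_conj_of_roots (g : (ZMod 2)[X]) (hg : Irreducible g) {x y : F}
    (hx : (g.map (ZMod.castHom (dvd_refl 2) F)).IsRoot x) (hy : (g.map (ZMod.castHom (dvd_refl 2) F)).IsRoot y) :
    ∃ j : ℕ, x ^ 2 ^ j = y := by
  letI : Algebra (ZMod 2) F := ZMod.algebra F 2
  have hh : (ZMod.castHom (dvd_refl 2) F) = algebraMap (ZMod 2) F := Subsingleton.elim _ _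
  rw [hh, IsRoot.def, eval_map, ← aeval_def] at hx hy
  have hy' : IsAlgebraic (ZMod 2) y := Algebra.IsAlgebraic.isAlgebraic y
  have hd : Associated (minpoly (ZMod 2) y) g :=
    (minpoly.irreducible hy'.isIntegral).associated_of_dvd hg (minpoly.dvd _ _ hy)
  have hxy : aeval x (minpoly (ZMod 2) y) = 0 := by
    obtain ⟨u, hu⟩ := hd
    have h := hx
    rw [← hu, map_mul, mul_eq_zero] at h
    exact h.resolve_right fun h0 => by
      have hun := (u.isUnit.map (aeval x)).ne_zero
      exact hun h0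
  obtain ⟨σ, hσ⟩ := minpoly.exists_algEquiv_of_root hy' hxy
  obtain ⟨j, hj⟩ := FiniteField.exists_forall_apply_eq_pow (k := ZMod 2) (p := 2) F σ
  exact ⟨j, by rw [← hσ, hj, Nat.card_zmod]⟩

/-- Twisted conjugation on additive maps, linear over `F`. -/
def twist (l : F) : Module.End F (F →+ F) where
  toFun T := l • T.comp (AddMonoidHom.mulLeft l⁻¹)
  map_add' T T' := by rw [AddMonoidHom.add_comp, smul_add]
  map_smul' r T := by
    apply AddMonoidHom.ext
    intro e
    simp [mul_left_comm]

theorem twist_apply (l : F) (T : F →+ F) (e : F) : twist l T e = l * T (l⁻¹ * e) := rfl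

theorem eigen_eq (hl : Prim l) {T : F →+ F} {μ : F} (h : twist l T = μ • T) :
    ∀ e, l * T e = μ * T (l * e) := fun e => by
  have := congrArg (fun S : F →+ F => S (l * e)) h
  simpa [twist_apply, inv_mul_cancel_left₀ hl.1] using this

/-- An irreducible equivariant family of additive maps consists of monomials of one exponent. -/
theorem monomial_family (hq : Fintype.card F = 2 ^ n) (hn : 0 < n) (hl : Prim l) {W : Type*} [AddCommGroup W]
    [Finite W] [Nontrivial W] (C : W →+ W) (h : W →+ (F →+ F)) (hinj : Function.Injective h)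
    (heq : ∀ z e, h (C z) (l * e) = l * h z e) (hfix : ∀ z, C z = z → z = 0)
    (hirr : ∀ U : AddSubgroup W, (∀ u ∈ U, C u ∈ U) → U = ⊥ ∨ U = ⊤) :
    ∃ i μ, 0 < i ∧ i < n ∧ μ * l ^ 2 ^ i = l ∧ (∀ z e, h z e = h z 1 * e ^ 2 ^ i) ∧
      ∀ z, h (C z) 1 = μ * h z 1 := by
  classical
  set c := ZMod.castHom (dvd_refl 2) F
  have hC : ∀ z, h (C z) = twist l (h z) := fun z => AddMonoidHom.ext fun e => by
    rw [twist_apply, ← heq, mul_inv_cancel_left₀ hl.1]
  set τ : Module.End F (F →+ F) := twist l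
  let φ : (ZMod 2)[X] →+* Module.End F (F →+ F) := (aeval τ).toRingHom.comp (mapRingHom c)
  -- invariant subgroup killed by the image of a polynomial
  let K : (ZMod 2)[X] → AddSubgroup W := fun g => (φ g).toAddMonoidHom.ker.comap h
  have hK : ∀ g, ∀ u ∈ K g, C u ∈ K g := by
    intro g u hu
    have hu' : φ g (h u) = 0 := hu
    show φ g (h (C u)) = 0
    have hcomm : φ g * φ X = φ X * φ g := by rw [← map_mul, ← map_mul, mul_comm]
    have hX : φ X = τ := by simp [φ]
    rw [hX] at hcomm
    have := LinearMap.congr_fun hcomm (h u)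
    simp only [Module.End.mul_apply] at this
    rw [hC, this, hu', map_zero]
  have hM : φ (X ^ (2 ^ n - 1) - 1) = 0 := by
    simp only [φ, RingHom.comp_apply, AlgHom.toRingHom_eq_coe, RingHom.coe_coe, coe_mapRingHom,
      Polynomial.map_sub, Polynomial.map_pow, map_X, Polynomial.map_one, map_sub, map_pow, aeval_X, map_one,
      sub_eq_zero]
    have hit : ∀ (j : ℕ) (T : F →+ F) e, (τ ^ j) T e = l ^ j * T (l⁻¹ ^ j * e) := by
      intro j
      induction j with
      | zero => intro T e; simp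
      | succ j ih =>
        intro T e
        rw [pow_succ, Module.End.mul_apply, ih, twist_apply, pow_succ, pow_succ, mul_assoc]
        congr 3
        ring
    refine LinearMap.ext fun T => AddMonoidHom.ext fun e => ?_
    rw [hit, ← hq, FiniteField.pow_card_sub_one_eq_one _ hl.1,
      FiniteField.pow_card_sub_one_eq_one _ (inv_ne_zero hl.1)]
    simp
  -- an irreducible polynomial killing everything
  obtain ⟨g, hg, hgd, hgK⟩ : ∃ g, Irreducible g ∧ g ∣ (X ^ (2 ^ n - 1) - 1 : (ZMod 2)[X]) ∧ K g = ⊤ := by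
    have hne : (X ^ (2 ^ n - 1) - 1 : (ZMod 2)[X]) ≠ 0 := by
      have : 2 ^ 1 ≤ 2 ^ n := Nat.pow_le_pow_right two_pos hn
      exact (monic_X_pow_sub_C (1 : ZMod 2) (by omega : 2 ^ n - 1 ≠ 0)).ne_zero
    have key : ∀ g : (ZMod 2)[X], g ≠ 0 → K g = ⊤ → ∃ f, Irreducible f ∧ f ∣ g ∧ K f = ⊤ := by
      intro g
      induction g using WfDvdMonoid.induction_on_irreducible with
      | zero => exact fun h0 => absurd rfl h0
      | unit u hu =>
        intro _ htop
        obtain ⟨z, hz⟩ := exists_ne (0 : W)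
        refine absurd (hinj ?_) hz
        rw [map_zero]
        have h1 : φ u (h z) = 0 := (htop ▸ AddSubgroup.mem_top z : z ∈ K u)
        obtain ⟨v, hv⟩ := hu.map φ
        have := congrArg ((↑v⁻¹ : Module.End F (F →+ F))) h1
        rwa [map_zero, ← Module.End.mul_apply, ← hv, Units.inv_mul, Module.End.one_apply] at this
      | mul a p ha hp ih =>
        intro hne htop
        rcases hirr (K p) (hK p) with hb | ht
        · have : K a = ⊤ := by
            refine eq_top_iff.2 fun z _ => ?_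
            have h1 : φ (p * a) (h z) = 0 := (htop ▸ AddSubgroup.mem_top z : z ∈ K (p * a))
            rw [mul_comm, map_mul, Module.End.mul_apply] at h1
            by_contra hza
            rcases hirr (K a) (hK a) with hab | hat
            · -- both kernels trivial: the product is injective
              apply hza
              have hzero : ∀ w, φ a (h w) = 0 → w = 0 := fun w hw => (AddSubgroup.mem_bot).1 (hab ▸ hw)
              -- rewrite through commutation
              have hcl : ∀ q : (ZMod 2)[X], ∀ w : W, ∃ w' : W, h w' = φ q (h w) := by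
                intro q
                induction q using Polynomial.induction_on' with
                | add q r hq' hr' =>
                  intro w
                  obtain ⟨w₁, h₁⟩ := hq' w
                  obtain ⟨w₂, h₂⟩ := hr' w
                  exact ⟨w₁ + w₂, by rw [map_add, h₁, h₂, map_add, LinearMap.add_apply]⟩
                | monomial k r =>
                  intro w
                  have hmon : φ (monomial k r) (h w) = c r • (τ ^ k) (h w) := by
                    simp [φ, aeval_monomial, Module.algebraMap_end_apply]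
                  have hk : ∃ w', h w' = (τ ^ k) (h w) := by
                    clear hmon
                    induction k with
                    | zero => exact ⟨w, by simp⟩
                    | succ k ihk =>
                      obtain ⟨w', hw'⟩ := ihk
                      exact ⟨C w', by rw [hC, hw', pow_succ', Module.End.mul_apply]⟩
                  obtain ⟨w', hw'⟩ := hk
                  rw [hmon, ← hw']
                  obtain rfl | rfl : r = 0 ∨ r = 1 := (by decide : ∀ s : ZMod 2, s = 0 ∨ s = 1) r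
                  · exact ⟨0, by simp⟩
                  · exact ⟨w', by simp⟩
              obtain ⟨w', hw'⟩ := hcl p z
              rw [← hw'] at h1
              have hw0 := hzero w' h1
              rw [hw0, map_zero] at hw'
              have : z ∈ K p := hw'.symm
              rw [hb, AddSubgroup.mem_bot] at this
              exact this ▸ (K a).zero_mem
            · exact hza (hat ▸ AddSubgroup.mem_top z)
          obtain ⟨f, hf, hfd, hfK⟩ := ih (right_ne_zero_of_mul hne) this
          exact ⟨f, hf, hfd.mul_left p, hfK⟩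
        · exact ⟨p, hp, dvd_mul_right p a, ht⟩
    exact key _ hne (eq_top_iff.2 fun z _ => by show φ _ (h z) = 0; rw [hM]; rfl)
  -- the roots of `g`
  set G := g.map c with hG
  have hGd : G ∣ (X ^ (2 ^ n - 1) - 1 : F[X]) := by
    have := Polynomial.map_dvd c hgd
    simpa using this
  have hG0 : G ≠ 0 := Polynomial.map_ne_zero hg.ne_zero
  have hXn : (X ^ 2 ^ n - X : F[X]) = X * (X ^ (2 ^ n - 1) - 1) := by
    rw [mul_sub, mul_one, ← pow_succ', Nat.sub_add_cancel Nat.one_le_two_pow]
  have hsplit : G.Splits := by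
    refine Polynomial.Splits.of_dvd (?_ : (X ^ 2 ^ n - X : F[X]).Splits) ?_ ?_
    · rw [Polynomial.splits_iff_card_roots, ← hq, FiniteField.roots_X_pow_card_sub_X,
        FiniteField.X_pow_card_sub_X_natDegree_eq _ Fintype.one_lt_card]
      simp
    · rw [← hq]; exact FiniteField.X_pow_card_sub_X_ne_zero _ Fintype.one_lt_card
    · exact hXn ▸ dvd_mul_of_dvd_right hGd X
  have hnd : G.roots.Nodup := by
    refine Multiset.nodup_of_le (Polynomial.roots.le_of_dvd ?_ (hXn ▸ dvd_mul_of_dvd_right hGd X : G ∣ X ^ 2 ^ n - X)) ?_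
    · rw [← hq]; exact FiniteField.X_pow_card_sub_X_ne_zero _ Fintype.one_lt_card
    · rw [← hq, FiniteField.roots_X_pow_card_sub_X]; exact Finset.nodup _
  -- eigenvalue possible
  set Pos : F → Prop := fun μ => ∃ T : F →+ F, T ≠ 0 ∧ τ T = μ • T
  have hP1 : ∀ μ, Pos μ → μ ≠ 1 → ∃ i, 0 < i ∧ i < n ∧ μ * l ^ 2 ^ i = l := by
    rintro μ ⟨T, hT, hTe⟩ hμ
    obtain ⟨i, hi, -, -, hμi⟩ := eigen_monomial hq hn hl hT (eigen_eq hl hTe)
    refine ⟨i, Nat.pos_of_ne_zero fun h0 => hμ ?_, hi, hμi⟩
    rw [h0, pow_zero, pow_one] at hμi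
    exact (mul_eq_right₀ hl.1).1 hμi
  have hkill : ∀ z, aeval τ G (h z) = 0 := fun z => (hgK ▸ AddSubgroup.mem_top z : z ∈ K g)
  have hroot1 : ∀ μ ∈ G.roots, Pos μ → μ ≠ 1 := by
    intro μ hμ _ h1
    subst h1
    obtain ⟨z, hz⟩ := exists_ne (0 : W)
    -- `g` has the root one, hence equals `X - 1` up to a unit and fixes the family
    have hr : g.IsRoot 1 := by
      have h := (mem_roots hG0).1 hμ
      rw [hG, IsRoot.def, ← map_one c, eval_map_apply] at h
      exact (map_eq_zero c).1 h
    obtain ⟨u, hu⟩ := (irreducible_X_sub_C (1 : ZMod 2)).associated_of_dvd hg (dvd_iff_isRoot.2 hr)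
    refine hz (hfix z (hinj ?_))
    rw [hC, ← sub_eq_zero]
    have h1 : φ g (h z) = 0 := hkill z
    rw [← hu, mul_comm, map_mul, Module.End.mul_apply] at h1
    obtain ⟨v, hv⟩ := u.isUnit.map φ
    have := congrArg ((↑v⁻¹ : Module.End F (F →+ F))) h1
    rw [map_zero, ← Module.End.mul_apply, ← hv, Units.inv_mul, Module.End.one_apply] at this
    simpa [φ] using this
  have hprod : ∀ z, (G.roots.toList.map fun r => τ - algebraMap F _ r).prod (h z) = 0 := by
    intro z
    have hprodeq : G = Polynomial.C G.leadingCoeff * (G.roots.toList.map fun r => X - Polynomial.C r).prod := by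
      conv_lhs => rw [hsplit.eq_prod_roots]
      rw [← Multiset.prod_coe, ← Multiset.map_coe, Multiset.coe_toList]
    have h1 := hkill z
    rw [hprodeq, map_mul, aeval_C, Module.End.mul_apply, Module.algebraMap_end_apply,
      smul_eq_zero_iff_right (leadingCoeff_ne_zero.2 hG0), map_list_prod, List.map_map] at h1
    simpa [Function.comp_def] using h1
  -- linear factors with impossible eigenvalue are injective
  have hinjf : ∀ (L : List F), (∀ r ∈ L, ¬ Pos r) → ∀ T, (L.map fun r => τ - algebraMap F _ r).prod T = 0 → T = 0 := by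
    intro L
    induction L with
    | nil => intro _ T hT; simpa using hT
    | cons r L ih =>
      intro hL T hT
      rw [List.map_cons, List.prod_cons, Module.End.mul_apply] at hT
      refine ih (fun s hs => hL s (List.mem_cons_of_mem _ hs)) T ?_
      by_contra h0
      refine hL r List.mem_cons_self ⟨_, h0, ?_⟩
      rwa [LinearMap.sub_apply, Module.algebraMap_end_apply, sub_eq_zero] at hT
  obtain ⟨z₀, hz₀⟩ := exists_ne (0 : W)
  obtain ⟨μ, hμ, hμP⟩ : ∃ μ ∈ G.roots, Pos μ := by
    by_contra hno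
    push Not at hno
    exact hz₀ (hinj (by rw [map_zero]; exact hinjf _ (fun r hr => hno r (Multiset.mem_toList.1 hr)) _ (hprod z₀)))
  obtain ⟨i, hi0, hi, hμi⟩ := hP1 μ hμP (hroot1 μ hμ hμP)
  have huniq : ∀ r ∈ G.roots, Pos r → r = μ := by
    intro r hr hrP
    obtain ⟨i', hi'0, hi', hri⟩ := hP1 r hrP (hroot1 r hr hrP)
    obtain ⟨j, hj⟩ := exists_conj_of_roots g hg ((mem_roots hG0).1 hμ) ((mem_roots hG0).1 hr)
    have := exponent_eq_of_conj hq hl hi hi0.ne' hi' hi'0.ne' hμi hri hj
    subst this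
    exact mul_right_cancel₀ (pow_ne_zero _ hl.1) (hri.trans hμi.symm)
  have heig : ∀ z, τ (h z) = μ • h z := by
    intro z
    have h1 := hprod z
    have hperm : (G.roots.toList.map fun r => τ - algebraMap F _ r).prod =
        ((G.roots.erase μ).toList.map fun r => τ - algebraMap F _ r).prod * (τ - algebraMap F _ μ) := by
      have hcm : ∀ L : List F, (L.map fun r => τ - algebraMap F _ r).prod =
          aeval τ (L.map fun r => X - Polynomial.C r).prod := fun L => by
        rw [map_list_prod, List.map_map]; simp [Function.comp_def]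
      rw [hcm, hcm, show τ - algebraMap F _ μ = aeval τ (X - Polynomial.C μ) by simp, ← map_mul]
      congr 1
      rw [← Multiset.prod_coe, ← Multiset.map_coe, Multiset.coe_toList, ← Multiset.prod_coe, ← Multiset.map_coe,
        Multiset.coe_toList, mul_comm, ← Multiset.prod_cons, ← Multiset.map_cons (fun r => X - Polynomial.C r),
        Multiset.cons_erase hμ]
    rw [hperm, Module.End.mul_apply] at h1
    have h2 := hinjf _ (fun r hr => fun hp => by
      have hr' := Multiset.mem_toList.1 hr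
      have := huniq r (Multiset.mem_of_mem_erase hr') hp
      subst this
      exact hnd.notMem_erase hr') _ h1
    rwa [LinearMap.sub_apply, Module.algebraMap_end_apply, sub_eq_zero] at h2
  refine ⟨i, μ, hi0, hi, hμi, fun z e => ?_, fun z => by rw [hC, heig]; rfl⟩
  by_cases hz : h z = 0
  · simp [hz]
  obtain ⟨i', hi', hmon, -, hμi'⟩ := eigen_monomial hq hn hl hz (eigen_eq hl (heig z))
  have hμ0 : μ ≠ 0 := fun h0 => hl.1 (by rw [← hμi, h0, zero_mul])
  have h3 : l ^ 2 ^ i = l ^ 2 ^ i' := mul_left_cancel₀ hμ0 (hμi.trans hμi'.symm)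
  have hp : ∀ x, x < n → 1 ≤ 2 ^ x ∧ 2 ^ x ≤ 2 ^ n - 1 := fun x hx => by
    have := Nat.pow_lt_pow_right (a := 2) one_lt_two hx
    exact ⟨Nat.one_le_two_pow, by omega⟩
  rw [Nat.pow_right_injective le_rfl (eq_of_modEq_range (hl.modEq hq h3) (hp i hi).1 (hp i hi).2 (hp i' hi').1
    (hp i' hi').2)]
  exact hmon e

/-- Linear sections fixed by a monomial family. -/
theorem section_rigid (hq : Fintype.card F = 2 ^ n) (hl : Prim l) {W : Type*} [AddCommGroup W] (C : W → W)
    {i : ℕ} {μ : F} (hi0 : 0 < i) (hi : i < n) (hμ : μ * l ^ 2 ^ i = l) (f : W →+ F) (hf : Function.Injective f)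
    (hfC : ∀ z, f (C z) = μ * f z) (L : W →+ F) (hL : ∀ z, f z * L z ^ 2 ^ i = L z) (hne : L ≠ 0) :
    ∀ z, L z = f z ^ 2 := by
  have hn : 0 < n := by omega
  have hadd : ∀ z z', f z * L z' ^ 2 ^ i = f z' * L z ^ 2 ^ i := by
    intro z z'
    have := hL (z + z')
    rw [map_add, map_add, add_pow_char_pow] at this
    have h2 : f z * L z' ^ 2 ^ i + f z' * L z ^ 2 ^ i = 0 := by linear_combination this - hL z - hL z'
    exact CharTwo.add_eq_zero.1 h2
  have hinj : ∀ z, L z = 0 → z = 0 := by
    intro z hz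
    by_contra hz0
    refine hne (AddMonoidHom.ext fun z' => ?_)
    have := hadd z z'
    rw [hz, zero_pow (by positivity), mul_zero] at this
    have hf0 : f z ≠ 0 := fun h => hz0 (hf (h.trans (map_zero f).symm))
    simpa [hf0] using this
  have key : (i + 1) % n = 0 := by
    obtain ⟨z, hz0⟩ : ∃ z : W, z ≠ 0 := by
      by_contra hall
      push Not at hall
      exact hne (AddMonoidHom.ext fun z => by simp [hall z])
    have hf0 : f z ≠ 0 := fun h => hz0 (hf (h.trans (map_zero f).symm))
    have hL0 : L z ≠ 0 := fun h => hz0 (hinj z h)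
    have hμ0 : μ ≠ 0 := fun h0 => hl.1 (by rw [← hμ, h0, zero_mul])
    have hLC : L (C z) ≠ 0 := fun h => by
      have := hfC z
      rw [hinj _ h, map_zero] at this
      exact mul_ne_zero hμ0 hf0 this.symm
    set u := L (C z) / L z with hu
    have h1 := hadd z (C z)
    rw [hfC] at h1
    have hu1 : u ^ 2 ^ i = μ := by
      rw [hu, div_pow, div_eq_iff (pow_ne_zero _ hL0)]
      exact mul_left_cancel₀ hf0 (by linear_combination h1)
    have h2 := hL (C z)
    rw [hfC] at h2
    have hu2 : μ * μ = u := by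
      rw [hu, eq_div_iff hL0]
      conv_rhs => rw [← h2]
      conv_lhs => rw [← hL z]
      have : L (C z) ^ 2 ^ i = μ * L z ^ 2 ^ i := by
        rw [← hu1, hu, div_pow, div_mul_cancel₀ _ (pow_ne_zero _ hL0)]
      rw [this]; ring
    have h3 : (μ * μ) ^ 2 ^ i = μ := by rw [hu2, hu1]
    have e1 : l ^ (2 ^ (i + 1) + 2 ^ i) = l ^ (1 + 2 ^ (i + i + 1)) := by
      have hl2 : l ^ 2 ^ (i + 1) = (μ * μ) ^ 2 ^ i * l ^ 2 ^ (i + i + 1) := by
        conv_lhs => rw [← hμ]
        rw [mul_pow, two_pow_mul, pow_succ' 2 i, pow_mul, pow_two, show i + (i + 1) = i + i + 1 by ring]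
      rw [pow_add l (2 ^ (i + 1)), pow_add l 1, pow_one, hl2, h3]
      linear_combination (l ^ 2 ^ (i + i + 1)) * hμ
    have h := hl.modEq hq e1
    have hL' := (pow_mod_eq (M := 2 ^ n - 1) rfl hn (i + 1)).add_right (2 ^ i)
    have hR' := (pow_mod_eq (M := 2 ^ n - 1) rfl hn (i + i + 1)).add_left 1
    have h' := hL'.symm.trans (h.trans hR')
    have ha := Nat.mod_lt (i + 1) hn
    have hc := Nat.mod_lt (i + i + 1) hn
    have hab : (i + 1) % n ≠ i := by
      intro h0
      rcases Nat.lt_or_ge (i + 1) n with hlt | hge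
      · rw [Nat.mod_eq_of_lt hlt] at h0; omega
      · rw [show i + 1 = n by omega, Nat.mod_self] at h0; omega
    by_cases hc0 : (i + i + 1) % n = 0
    · rw [hc0, pow_zero, show (1 : ℕ) + 1 = 2 ^ 1 from rfl] at h'
      exact absurd h' (not_modEq_single ha hi hab)
    · rcases pair_eq ha hi hab hn hc (Ne.symm hc0) (by simpa using h') with ⟨h4, -⟩ | ⟨-, h4⟩
      · exact h4
      · omega
  intro z
  have hin : i + 1 = n := by
    rcases Nat.lt_or_ge (i + 1) n with hlt | hge
    · rw [Nat.mod_eq_of_lt hlt] at key; omega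
    · omega
  by_cases hz : z = 0
  · simp [hz]
  have hL0 : L z ≠ 0 := fun h => hz (hinj z h)
  have h1 := congrArg (· ^ 2) (hL z)
  simp only [mul_pow, ← pow_mul] at h1
  rw [← pow_succ, hin, ← hq, FiniteField.pow_card] at h1
  exact mul_right_cancel₀ hL0 (by rw [h1, pow_two])

end Cfsg.Agent.Suzuki2
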