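import Cfsg.Prelude.Def_LieRecognition
import Cfsg.Agent.RankOne.SuzukiCenter
import Cfsg.Agent.TypeA.Main
import Cfsg.Agent.Core.Solvable

/-!
Suzuki 2-groups: a generating automorphism, fixed-point freeness, invariant homomorphisms are trivial, and a field
structure on the centre.
-/

set_option autoImplicit false

namespace Cfsg.Agent.Suzuki2

open Subgroup
open scoped commutatorElement

universe u

/-- A nonabelian 2-group with an automorphism regular on the (at least two) involutions, all central. -/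
structure Setup (P : Type u) [Group P] where
  k : MulAut P
  fin : Finite P
  two : IsPGroup 2 P
  nc : ∃ x y : P, x * y ≠ y * x
  inv_center : ∀ x : P, x * x = 1 → x ∈ center P
  center_exp : ∀ z ∈ center P, z * z = 1
  fix : ∀ (j : ℕ) (x : P), x ≠ 1 → (k ^ j) x = x → k ^ j = 1
  trans : ∀ x y : P, x ≠ 1 → x * x = 1 → y ≠ 1 → y * y = 1 → ∃ j : ℕ, (k ^ j) x = y
  many : ∃ x y : P, x ≠ y ∧ x ≠ 1 ∧ x * x = 1 ∧ y ≠ 1 ∧ y * y = 1

theorem exists_setup {P : Type u} [Group P] (hP : Cfsg.IsSuzukiTwoGroup P) : Nonempty (Setup P) := by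
  obtain ⟨hinv, hexp⟩ := Cfsg.Agent.RankOne.isSuzuki_center hP
  obtain ⟨hfin, h2, hnc, hmany, K, hK, hreg⟩ := hP
  obtain ⟨k0, hk0⟩ := hK.exists_generator
  have : Fact (Nat.Prime 2) := ⟨Nat.prime_two⟩
  refine ⟨⟨k0, hfin, h2, hnc, hinv, hexp, fun j x hx hj => ?_, fun x y hx hx2 hy hy2 => ?_, hmany⟩⟩
  · -- some power of `x` is an involution, fixed as well
    obtain ⟨m, hm⟩ := h2 x
    classical
    have hex : ∃ m, x ^ 2 ^ m = 1 := ⟨m, hm⟩
    obtain ⟨m', hm'⟩ : ∃ m', Nat.find hex = m' + 1 := Nat.exists_eq_succ_of_ne_zero fun h0 => hx (by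
      have := Nat.find_spec hex
      rwa [h0, pow_zero, pow_one] at this)
    have h1 : x ^ 2 ^ m' ≠ 1 := Nat.find_min hex (by omega)
    have h2' : x ^ 2 ^ m' * x ^ 2 ^ m' = 1 := by
      rw [← pow_add, ← two_mul, ← pow_succ', ← hm']
      exact Nat.find_spec hex
    have h3 : ((k0 ^ j : K) : MulAut P) (x ^ 2 ^ m') = x ^ 2 ^ m' := by
      rw [map_pow, SubgroupClass.coe_pow, hj]
    have := (hreg _ _ h1 h2' h1 h2').unique (y₁ := k0 ^ j) (y₂ := 1) h3 (by simp)
    rw [← SubgroupClass.coe_pow, this, OneMemClass.coe_one]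
  · obtain ⟨g, hg, -⟩ := hreg x y hx hx2 hy hy2
    obtain ⟨i, rfl⟩ := (mem_powers_iff_mem_zpowers.mpr (hk0 g) : g ∈ Submonoid.powers k0)
    exact ⟨i, by simpa using hg⟩

variable {P : Type u} [Group P] (D : Setup P)

/-- A subgroup stable under the automorphism. -/
def KInv (H : Subgroup P) : Prop := ∀ x ∈ H, D.k x ∈ H

theorem fpf {x : P} (hx : D.k x = x) : x = 1 := by
  by_contra h
  have hk : D.k = 1 := by simpa using D.fix 1 x h (by simpa using hx)
  obtain ⟨a, b, hab, ha, ha2, hb, hb2⟩ := D.many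
  obtain ⟨j, hj⟩ := D.trans a b ha ha2 hb hb2
  rw [hk, one_pow] at hj
  exact hab (by simpa using hj)

theorem kInv_center : KInv D (center P) := fun x hx => by
  rw [mem_center_iff] at hx ⊢
  intro g
  obtain ⟨g, rfl⟩ := D.k.surjective g
  rw [← map_mul, ← map_mul, hx]

theorem kInv_top : KInv D (⊤ : Subgroup P) := fun _ _ => mem_top _

theorem KInv.inf {H H' : Subgroup P} (h : KInv D H) (h' : KInv D H') : KInv D (H ⊓ H') :=
  fun x hx => ⟨h x hx.1, h' x hx.2⟩

theorem KInv.surj {H : Subgroup P} (hH : KInv D H) {y : P} (hy : y ∈ H) : ∃ x ∈ H, D.k x = y := by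
  haveI := D.fin
  obtain ⟨⟨x, hx⟩, hxy⟩ := (Finite.injective_iff_surjective (f := fun x : H => (⟨D.k x, hH x x.2⟩ : H))).1
    (fun a b h => Subtype.ext (D.k.injective (congrArg Subtype.val h))) ⟨y, hy⟩
  exact ⟨x, hx, congrArg Subtype.val hxy⟩

theorem KInv.centralizer {H : Subgroup P} (hH : KInv D H) : KInv D (Subgroup.centralizer (H : Set P)) :=
  fun x hx => Subgroup.mem_centralizer_iff.2 fun y hy => by
    obtain ⟨y', hy', rfl⟩ := hH.surj D hy
    rw [← map_mul, ← map_mul, Subgroup.mem_centralizer_iff.1 hx y' hy']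

theorem exists_twisted {H : Subgroup P} (hH : KInv D H) {w : P} (hw : w ∈ H) :
    ∃ v ∈ H, D.k v * v⁻¹ = w := by
  haveI := D.fin
  obtain ⟨⟨v, hv⟩, hvw⟩ := (Finite.injective_iff_surjective
    (f := fun v : H => (⟨D.k v * (v : P)⁻¹, H.mul_mem (hH v v.2) (H.inv_mem v.2)⟩ : H))).1
    (fun a b h => by
      have h' : D.k a * (a : P)⁻¹ = D.k b * (b : P)⁻¹ := congrArg Subtype.val h
      refine Subtype.ext (eq_of_inv_mul_eq_one (fpf D ?_) : (a : P) = b)
      rw [map_mul, map_inv]
      have e1 : D.k a = D.k b * (b : P)⁻¹ * a := by rw [← h', inv_mul_cancel_right]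
      rw [e1]; group) ⟨w, hw⟩
  exact ⟨v, hv, congrArg Subtype.val hvw⟩

/-- An invariant homomorphism on an invariant subgroup is trivial. -/
theorem eq_zero_of_invariant {H : Subgroup P} (hH : KInv D H) {M : Type*} [AddCommGroup M] (φ : P → M)
    (hmul : ∀ a ∈ H, ∀ b ∈ H, φ (a * b) = φ a + φ b) (hinv : ∀ a ∈ H, φ (D.k a) = φ a) {w : P} (hw : w ∈ H) :
    φ w = 0 := by
  obtain ⟨v, hv, rfl⟩ := exists_twisted D hH hw
  have h1 := hmul _ (H.mul_mem (hH v hv) (H.inv_mem hv)) _ hv
  rw [inv_mul_cancel_right, hinv v hv] at h1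
  exact (add_eq_right.1 h1.symm)

/-- A field structure on the centre turning the automorphism into a multiplication by a primitive element. -/
theorem exists_field : ∃ (F : Type) (_ : Field F) (_ : Fintype F) (_ : CharP F 2) (n : ℕ) (L : P → F) (ω : F),
    2 ≤ n ∧ Fintype.card F = 2 ^ n ∧ Nat.card (center P) = 2 ^ n ∧ ω ≠ 0 ∧ (∀ x : F, x ≠ 0 → ∃ j : ℕ, ω ^ j = x) ∧
    (∀ a ∈ center P, ∀ b ∈ center P, L (a * b) = L a + L b) ∧ (∀ a ∈ center P, L (D.k a) = ω * L a) ∧
    (∀ a ∈ center P, L a = 0 → a = 1) ∧ ∀ x : F, ∃ a ∈ center P, L a = x := by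
  classical
  haveI := D.fin
  have : Fact (Nat.Prime 2) := ⟨Nat.prime_two⟩
  letI : Fintype (center P) := Fintype.ofFinite _
  obtain ⟨a, b, hab, ha, ha2, hb, hb2⟩ := D.many
  obtain ⟨n, hn⟩ := IsPGroup.iff_card.1 (D.two.to_subgroup (center P))
  have h3 : 2 < Nat.card (center P) := by
    rw [Nat.card_eq_fintype_card, Fintype.two_lt_card_iff]
    exact ⟨1, ⟨a, D.inv_center a ha2⟩, ⟨b, D.inv_center b hb2⟩, fun h => ha (congrArg Subtype.val h).symm,
      fun h => hb (congrArg Subtype.val h).symm, fun h => hab (congrArg Subtype.val h)⟩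
  have hn2 : 2 ≤ n := by
    rw [hn] at h3
    by_contra h
    interval_cases n <;> simp at h3
  let kc : center P ≃* center P :=
    { toFun := fun x => ⟨D.k x, kInv_center D x x.2⟩
      invFun := fun x => ⟨D.k.symm x, by
        obtain ⟨y, hy, e⟩ := (kInv_center D).surj D x.2
        rw [← e, D.k.symm_apply_apply]; exact hy⟩
      left_inv := fun x => Subtype.ext (D.k.symm_apply_apply _)
      right_inv := fun x => Subtype.ext (D.k.apply_symm_apply _)
      map_mul' := fun x y => Subtype.ext (map_mul D.k _ _) }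
  have hit : ∀ (j : ℕ) (x : Additive (center P)),
      (((⇑(MulEquiv.toAdditive kc))^[j] x).toMul : P) = (D.k ^ j) (x.toMul : P) := by
    intro j
    induction j with
    | zero => intro x; rfl
    | succ j ih =>
      intro x
      rw [Function.iterate_succ_apply', pow_succ']
      show D.k _ = _
      rw [ih]; rfl
  letI : CommGroup (center P) :=
    { (inferInstance : Group (center P)) with
      mul_comm := fun x y => Subtype.ext (mem_center_iff.1 y.2 x) }
  haveI : Finite (Additive (center P)) := inferInstanceAs (Finite (center P))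
  letI : Fintype (GaloisField 2 n) := Fintype.ofFinite _
  obtain ⟨L, ω, hL1, hω, hLk⟩ := Cfsg.Agent.TypeA.field_model (M := Additive (center P)) (MulEquiv.toAdditive kc)
    (Additive.ofMul ⟨a, D.inv_center a ha2⟩)
    (fun h => ha (show a = 1 from congrArg (fun z : Additive (center P) => (z.toMul : P)) h))
    (fun v hv => by
      obtain ⟨j, hj⟩ := D.trans a (v.toMul : P) ha ha2
        (fun h => hv (Additive.toMul.injective (Subtype.ext (show (v.toMul : P) = ((1 : center P) : P) from h)))) (D.center_exp _ v.toMul.2)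
      exact ⟨j, Additive.toMul.injective (Subtype.ext ((hit j _).trans hj))⟩)
    (fun v => Additive.toMul.injective (Subtype.ext (show ((v.toMul * v.toMul : center P) : P) = ((1 : center P) : P) from D.center_exp _ v.toMul.2)))
    (F := GaloisField 2 n) (by
      rw [show Nat.card (Additive (center P)) = Nat.card (center P) from rfl, hn, ← Nat.card_eq_fintype_card,
        GaloisField.card 2 n (by omega)])
  refine ⟨GaloisField 2 n, inferInstance, Fintype.ofFinite _, inferInstance, n,
    fun x => if hx : x ∈ center P then L (Additive.ofMul ⟨x, hx⟩) else 0, ω, hn2,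
    by rw [← Nat.card_eq_fintype_card, GaloisField.card 2 n (by omega)], hn, hω, fun x hx => ?_,
    fun x hx y hy => ?_, fun x hx => ?_, fun x hx h => ?_, fun x => ?_⟩
  · have hv : L.symm x ≠ 0 := fun h => hx (by simpa using congrArg L h)
    obtain ⟨j, hj⟩ := D.trans a ((L.symm x).toMul : P) ha ha2
      (fun h => hv (Additive.toMul.injective (Subtype.ext (show ((L.symm x).toMul : P) = ((1 : center P) : P) from h))))
      (D.center_exp _ (L.symm x).toMul.2)
    refine ⟨j, ?_⟩
    have hj' : (⇑(MulEquiv.toAdditive kc))^[j] (Additive.ofMul ⟨a, D.inv_center a ha2⟩) = L.symm x :=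
      Additive.toMul.injective (Subtype.ext ((hit j _).trans hj))
    rw [← L.apply_symm_apply x, ← hj']
    clear hj hj' hv
    induction j with
    | zero => rw [pow_zero]; exact hL1.symm
    | succ j ih => rw [Function.iterate_succ_apply', hLk, pow_succ', ih]
  · beta_reduce
    rw [dif_pos hx, dif_pos hy, dif_pos ((center P).mul_mem hx hy), ← map_add]
    rfl
  · beta_reduce
    rw [dif_pos hx, dif_pos (kInv_center D x hx), ← hLk]
    rfl
  · beta_reduce at h
    rw [dif_pos hx] at h
    have := L.injective (h.trans (map_zero L).symm)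
    exact congrArg (fun z : Additive (center P) => (z.toMul : P)) this
  · exact ⟨((L.symm x).toMul : P), (L.symm x).toMul.2, by beta_reduce; rw [dif_pos (L.symm x).toMul.2]; exact L.apply_symm_apply x⟩

theorem odd_orderOf : Odd (orderOf D.k) := by
  obtain ⟨F, _, _, _, n, L, ω, hn, hq, -, hω, -, hadd, hLk, hL0, hsurj⟩ := exists_field D
  obtain ⟨a, b, -, ha, ha2, -, -⟩ := D.many
  have hac := D.inv_center a ha2
  have hit : ∀ j : ℕ, (D.k ^ j) a ∈ center P ∧ L ((D.k ^ j) a) = ω ^ j * L a := by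
    intro j
    induction j with
    | zero => exact ⟨hac, by simp⟩
    | succ j ih =>
      rw [pow_succ']
      exact ⟨kInv_center D _ ih.1, by rw [MulAut.mul_apply, hLk _ ih.1, ih.2, pow_succ', mul_assoc]⟩
  have h1 : (D.k ^ (2 ^ n - 1)) a = a := by
    obtain ⟨h1, h2⟩ := hit (2 ^ n - 1)
    rw [← hq, FiniteField.pow_card_sub_one_eq_one _ hω, one_mul, hq] at h2
    have h3 := hL0 _ ((center P).mul_mem h1 hac)
      (by rw [hadd _ h1 _ hac, h2, CharTwo.add_self_eq_zero])
    rw [mul_eq_one_iff_eq_inv] at h3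
    exact h3.trans (inv_eq_of_mul_eq_one_right ha2)
  have h2 := orderOf_dvd_of_pow_eq_one (D.fix _ a ha h1)
  refine Odd.of_dvd_nat ?_ h2
  exact Nat.Even.sub_odd Nat.one_le_two_pow ((Nat.even_pow' (by omega)).2 even_two) odd_one

end Cfsg.Agent.Suzuki2
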