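import Cfsg.Agent.Suzuki2.Layer
import Cfsg.Agent.Suzuki2.FieldLemmas

/-!
Higman: a Suzuki 2-group has class two and all squares central.
-/

set_option autoImplicit false

namespace Cfsg.Agent.Suzuki2

open Subgroup
open scoped commutatorElement

universe u

variable {P : Type u} [Group P] {D : Setup P} {A : Subgroup P} {m : ℕ}

theorem k_comm (z w : P) : D.k ⁅z, w⁆ = ⁅D.k z, D.k w⁆ := by simp [commutatorElement_def]

section Good

variable (hA : Good D A m)
include hA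

theorem Good.comm_mem (z : P) {a : P} (ha : a ∈ A) : ⁅z, a⁆ ∈ A := by
  rw [commutatorElement_def]
  exact A.mul_mem (hA.normal.conj_mem a ha z) (A.inv_mem ha)

theorem Good.d_mul (z : P) {a b : P} (ha : a ∈ A) (hb : b ∈ A) : ⁅z, a * b⁆ = ⁅z, a⁆ * ⁅z, b⁆ := by
  rw [show ⁅z, a * b⁆ = ⁅z, a⁆ * (a * ⁅z, b⁆ * a⁻¹) by simp only [commutatorElement_def]; group,
    (hA.commute ha (hA.comm_mem z hb)).eq, mul_inv_cancel_right]

theorem Good.d_pow (z : P) {a : P} (ha : a ∈ A) : ∀ j : ℕ, ⁅z, a ^ j⁆ = ⁅z, a⁆ ^ j := by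
  intro j
  induction j with
  | zero => simp [commutatorElement_one_right]
  | succ j ih => rw [pow_succ, hA.d_mul z (A.pow_mem ha _) ha, ih, pow_succ]

theorem Good.d_inv (z : P) {a : P} (ha : a ∈ A) : ⁅z, a⁻¹⁆ = ⁅z, a⁆⁻¹ := by
  have := hA.d_mul z (A.inv_mem ha) ha
  rw [inv_mul_cancel, commutatorElement_one_right] at this
  exact eq_inv_of_mul_eq_one_left this.symm

theorem Good.d_small (z : P) {r : P} (hr : r ∈ A) (h4 : r ^ 4 = 1) : ⁅z, r⁆ ∈ center P := by
  refine D.inv_center _ ?_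
  rw [← hA.d_mul z hr hr]
  have hc : r * r ∈ center P := D.inv_center _ (by simpa [pow_succ, mul_assoc] using h4)
  exact commutatorElement_eq_one_iff_commute.2 (mem_center_iff.1 hc z)

/-- An element squaring into `A` inverts the square of its commutators. -/
theorem Good.rel {z a : P} (ha : a ∈ A) (hz : z * z ∈ A) : ⁅z, ⁅z, a⁆⁆ * ⁅z, a⁆ * ⁅z, a⁆ = 1 := by
  have h1 : z * (z * a * z⁻¹) * z⁻¹ = a := by
    rw [show z * (z * a * z⁻¹) * z⁻¹ = (z * z) * a * (z * z)⁻¹ by group, (hA.commute hz ha).eq,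
      mul_inv_cancel_right]
  calc ⁅z, ⁅z, a⁆⁆ * ⁅z, a⁆ * ⁅z, a⁆ = z * (z * a * z⁻¹) * z⁻¹ * a⁻¹ := by
        simp only [commutatorElement_def]; group
    _ = 1 := by rw [h1, mul_inv_cancel]

theorem Good.sq_rt {e : P} (he : e ∈ center P) : ∃ r ∈ A, r * r = e ∧ r ^ 4 = 1 := by
  obtain ⟨r, hr, hre⟩ := hA.exists_sq 1 (by have := hA.two_le; omega) e (hA.center_le he)
    (by rw [pow_one, pow_two]; exact D.center_exp e he)
  exact ⟨r, hr, hre, by rw [show r ^ 4 = (r * r) * (r * r) by simp [pow_succ, mul_assoc], hre, D.center_exp e he]⟩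

variable (hC : centralizer (A : Set P) ≤ A)
include hC

/-- The layer over `A` acts faithfully on the elements of order at most four of `A`. -/
theorem Good.faithful {z₀ : P} (hz₀ : haveI := hA.normal; z₀ ∈ lay A)
    (h0 : ∀ r ∈ A, r ^ 4 = 1 → ⁅z₀, r⁆ = 1) : z₀ ∈ A := by
  classical
  haveI := hA.normal
  haveI := D.fin
  by_cases hm : m = 2
  · subst hm
    refine hC (mem_centralizer_iff.2 fun a ha => (commutatorElement_eq_one_iff_mul_comm.1 (h0 a ha ?_)).symm)
    simpa using hA.exp a ha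
  have hm3 : 3 ≤ m := by have := hA.two_le; omega
  let N : Subgroup P :=
    { carrier := {z | z ∈ lay A ∧ ∀ r ∈ A, r ^ 4 = 1 → ⁅z, r⁆ = 1}
      one_mem' := ⟨one_mem _, fun r _ _ => commutatorElement_one_left r⟩
      mul_mem' := fun {z z'} hz hz' => ⟨mul_mem hz.1 hz'.1, fun r hr h4 => by
        rw [show ⁅z * z', r⁆ = z * ⁅z', r⁆ * z⁻¹ * ⁅z, r⁆ by simp only [commutatorElement_def]; group,
          hz'.2 r hr h4, hz.2 r hr h4]; group⟩
      inv_mem' := fun {z} hz => ⟨inv_mem hz.1, fun r hr h4 => by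
        have h := commutatorElement_eq_one_iff_commute.1 (hz.2 r hr h4)
        exact commutatorElement_eq_one_iff_commute.2 h.inv_left⟩ }
  have hNd : ∀ {z}, z ∈ N → ∀ a ∈ A, ⁅z, a⁆ ∈ center P := by
    intro z hz
    have key : ∀ u, u ≤ m - 3 → ∀ a ∈ A, ⁅z, a⁆ ^ 2 ^ (m - 2 - u) = 1 := by
      intro u
      induction u with
      | zero =>
        intro _ a ha
        rw [← hA.d_pow z ha]
        refine hz.2 _ (A.pow_mem ha _) ?_
        rw [← pow_mul, show 2 ^ (m - 2 - 0) * 4 = 2 ^ m by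
          rw [show (4 : ℕ) = 2 ^ 2 from rfl, ← pow_add]; congr 1; omega]
        exact hA.exp a ha
      | succ u ih =>
        intro hu a ha
        obtain ⟨i, hi⟩ : ∃ i, m - 2 - u = i + 2 := ⟨m - 4 - u, by omega⟩
        have hc := hA.comm_mem z ha
        have hc2 := ih (by omega) a ha
        rw [hi] at hc2
        obtain ⟨b, hb, hbc⟩ := hA.exists_root (m - (i + 2)) (i + 2) (by omega) _ hc hc2
        have h1 : ⁅z, ⁅z, a⁆⁆ ^ 2 ^ i = 1 := by
          rw [← hbc, hA.d_pow z hb, ← pow_mul, ← pow_add]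
          have := ih (by omega) b hb
          rw [show m - (i + 2) + i = (m - 2 - u) + (m - (i + 2) + i - (m - 2 - u)) by omega, pow_add, pow_mul, this,
            one_pow]
        have h2 : ⁅z, a⁆ * ⁅z, a⁆ = ⁅z, ⁅z, a⁆⁆⁻¹ :=
          eq_inv_of_mul_eq_one_right (by rw [← mul_assoc]; exact hA.rel ha hz.1.1)
        rw [show m - 2 - (u + 1) = i + 1 by omega, pow_succ', pow_mul, pow_two, h2, inv_pow, h1, inv_one]
    intro a ha
    have := key (m - 3) le_rfl a ha
    rw [show m - 2 - (m - 3) = 1 by omega, pow_one, pow_two] at this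
    exact D.inv_center _ this
  have hd0 : ∀ {z}, z ∈ N → ∀ a ∈ A, a ^ 2 ^ (m - 1) = 1 → ⁅z, a⁆ = 1 := fun {z} hz a ha h => by
    obtain ⟨b, hb, rfl⟩ := hA.exists_sq (m - 1) (by omega) a ha h
    rw [hA.d_mul z hb hb]
    exact D.center_exp _ (hNd hz b hb)
  have hnsq : ∀ {z}, z ∈ N → z ∉ A → ¬ ∃ b ∈ A, b * b = z * z := by
    rintro z hz hzA ⟨b, hb, hbb⟩
    set c := ⁅z, b⁆ with hc
    have hcz : c ∈ center P := hNd hz b hb
    obtain ⟨u, hu, huu, hu4⟩ := hA.sq_rt hcz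
    set a := b⁻¹ * u with haa
    have ha : a ∈ A := A.mul_mem (A.inv_mem hb) hu
    have hda : ⁅z, a⁆ = c := by
      rw [haa, hA.d_mul z (A.inv_mem hb) hu, hz.2 u hu hu4, mul_one, hA.d_inv z hb, ← hc]
      exact inv_eq_of_mul_eq_one_right (D.center_exp c hcz)
    have h1 : z * a * (z * a) = 1 := by
      calc z * a * (z * a) = ⁅z, a⁆ * a * (z * z) * a := by simp only [commutatorElement_def]; group
        _ = c * (a * (b * b) * a) := by rw [hda, hbb]; simp only [mul_assoc]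
        _ = c * (u * u) := by
          rw [haa]
          have hbu := hA.commute hb hu
          calc c * (b⁻¹ * u * (b * b) * (b⁻¹ * u)) = c * (b⁻¹ * (u * b) * u) := by group
            _ = c * (u * u) := by rw [hbu.symm.eq]; group
        _ = 1 := by rw [huu]; exact D.center_exp c hcz
    have := A.mul_mem (hA.center_le (D.inv_center _ h1)) (A.inv_mem ha)
    rw [mul_inv_cancel_right] at this
    exact hzA this
  by_contra hz₀A
  have hz₀N : z₀ ∈ N := ⟨hz₀, h0⟩
  have hNk : KInv D N := fun z hz => ⟨kInv_lay D hA.kinv z hz.1, fun r hr h4 => by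
    obtain ⟨r', hr', rfl⟩ := hA.kinv.surj D hr
    rw [← k_comm, hz.2 r' hr' (D.k.injective (by rw [map_pow, map_one, h4])), map_one]⟩
  let φ : P → P := fun z => (z * z) ^ 2 ^ (m - 1)
  have hexp : ∀ a ∈ A, a ^ 2 ^ (m - 1) ∈ center P := fun a ha => D.inv_center _ (by
    rw [← pow_add, ← two_mul, ← pow_succ', Nat.sub_add_cancel (by omega)]
    exact hA.exp a ha)
  have hφc : ∀ z ∈ N, φ z ∈ center P := fun z hz => hexp _ hz.1.1
  have hφmul : ∀ z ∈ N, ∀ z' ∈ N, φ (z * z') = φ z * φ z' := by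
    intro z hz z' hz'
    have hc : ⁅z', z⁆ ∈ A := hz'.1.2 z
    have hcc : ⁅z', z⁆ * ⁅z', z⁆ ∈ center P := by
      have e : ⁅z', ⁅z', z⁆⁆ * (⁅z', z⁆ * ⁅z', z⁆) = ⁅z, z' * z'⁆⁻¹ := by
        simp only [commutatorElement_def, mul_inv_rev, inv_inv, mul_assoc, inv_mul_cancel_left,
          mul_inv_cancel_left]
      rw [eq_inv_mul_of_mul_eq e]
      exact mul_mem (inv_mem (hNd hz' _ hc)) (inv_mem (hNd hz _ hz'.1.1))
    have hc4 : ⁅z', z⁆ ^ 4 = 1 := by
      rw [show ⁅z', z⁆ ^ 4 = ⁅z', z⁆ * ⁅z', z⁆ * (⁅z', z⁆ * ⁅z', z⁆) by simp [pow_succ, mul_assoc]]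
      exact D.center_exp _ hcc
    have hcz := commutatorElement_eq_one_iff_commute.1 (hz.2 _ hc hc4)
    have e : z * z' * (z * z') = ⁅z', z⁆ * ((z * z) * (z' * z')) := by
      calc z * z' * (z * z') = z * ⁅z', z⁆ * (z * z' * z') := by simp only [commutatorElement_def]; group
        _ = _ := by rw [hcz.eq]; simp only [mul_assoc]
    show (z * z' * (z * z')) ^ _ = _
    rw [e, (hA.commute hc (A.mul_mem hz.1.1 hz'.1.1)).mul_pow, (hA.commute hz.1.1 hz'.1.1).mul_pow,
      show ⁅z', z⁆ ^ 2 ^ (m - 1) = 1 by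
        rw [show m - 1 = 2 + (m - 3) by omega, pow_add, pow_mul, show (2 : ℕ) ^ 2 = 4 from rfl, hc4, one_pow],
      one_mul]
  have hker : ∀ z ∈ N, φ z = 1 → z ∈ A := fun z hz h => by
    by_contra hzA
    exact hnsq hz hzA (hA.exists_sq (m - 1) (by omega) _ hz.1.1 h)
  have hsurj : ∀ e ∈ center P, ∃ z ∈ N, φ z = e :=
    surj_of_invariant φ N hNk hφc (by simp [φ]) (fun z _ => by simp [φ, map_pow])
      ⟨z₀, hz₀N, fun h => hz₀A (hker z₀ hz₀N h)⟩
  let sec : P → P := fun e => if h : e ∈ center P then (hsurj e h).choose else 1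
  have hsec : ∀ e ∈ center P, sec e ∈ N ∧ φ (sec e) = e := fun e he => by
    simp only [sec, dif_pos he]
    exact (hsurj e he).choose_spec
  let rt : P → P := fun e => if h : e ∈ center P then (hA.surj e h).choose else 1
  have hrt : ∀ e ∈ center P, rt e ∈ A ∧ rt e ^ 2 ^ (m - 1) = e := fun e he => by
    simp only [rt, dif_pos he]
    exact (hA.surj e he).choose_spec
  have hright : ∀ {z}, z ∈ N → ∀ a ∈ A, ∀ a' ∈ A, a ^ 2 ^ (m - 1) = a' ^ 2 ^ (m - 1) → ⁅z, a⁆ = ⁅z, a'⁆ := by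
    intro z hz a ha a' ha' h
    have h1 := hd0 hz (a * a'⁻¹) (A.mul_mem ha (A.inv_mem ha'))
      (by rw [(hA.commute ha ha').inv_right.mul_pow, inv_pow, h, mul_inv_cancel])
    rw [hA.d_mul z ha (A.inv_mem ha'), hA.d_inv z ha', mul_inv_eq_one] at h1
    exact h1
  have hleft : ∀ z ∈ N, ∀ z' ∈ N, φ z = φ z' → ∀ a ∈ A, ⁅z, a⁆ = ⁅z', a⁆ := by
    intro z hz z' hz' h a ha
    have hb : z'⁻¹ * z ∈ A := by
      refine hker _ (mul_mem (inv_mem hz') hz) ?_
      have h1 := hφmul z' hz' (z'⁻¹ * z) (mul_mem (inv_mem hz') hz)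
      rw [mul_inv_cancel_left, h, left_eq_mul] at h1
      exact h1
    have hz_eq : z = z' * (z'⁻¹ * z) := by group
    have hcm : Commute (z'⁻¹ * z) a := hA.commute hb ha
    generalize z'⁻¹ * z = b at hz_eq hcm
    subst hz_eq
    rw [show ⁅z' * b, a⁆ = z' * (b * a * b⁻¹) * z'⁻¹ * a⁻¹ by simp only [commutatorElement_def]; group, hcm.eq,
      mul_inv_cancel_right, commutatorElement_def]
  refine hz₀A (hC (mem_centralizer_iff.2 fun a ha => (commutatorElement_eq_one_iff_mul_comm.1 ?_).symm))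
  have hz1 := hsec _ (hφc _ hz₀N)
  have ha1 := hrt _ (hexp a ha)
  rw [hleft _ hz₀N _ hz1.1 hz1.2.symm a ha, hright hz1.1 a ha _ ha1.1 ha1.2.symm]
  refine alt_trivial (D := D) (fun x y => ⁅sec x, rt y⁆) (fun x hx y hy => hNd (hsec x hx).1 _ (hrt y hy).1)
    ?_ ?_ ?_ ?_ (hφc _ hz₀N) (hexp a ha)
  · intro x hx x' hx' y hy
    obtain ⟨a1, e1⟩ := hsec x hx
    obtain ⟨a2, e2⟩ := hsec x' hx'
    obtain ⟨a3, -⟩ := hrt y hy
    obtain ⟨a4, e4⟩ := hsec _ ((center P).mul_mem hx hx')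
    rw [hleft _ a4 _ (mul_mem a1 a2) (by rw [e4, hφmul _ a1 _ a2, e1, e2]) _ a3]
    exact Cfsg.Agent.RankOne.comm_mul_left_of_central (hNd a2 _ a3)
  · intro x hx y hy y' hy'
    obtain ⟨a1, -⟩ := hsec x hx
    obtain ⟨a2, e2⟩ := hrt y hy
    obtain ⟨a3, e3⟩ := hrt y' hy'
    obtain ⟨a4, e4⟩ := hrt _ ((center P).mul_mem hy hy')
    rw [hright a1 _ a4 _ (A.mul_mem a2 a3) (by rw [e4, (hA.commute a2 a3).mul_pow, e2, e3]), hA.d_mul _ a2 a3]
  · intro x hx
    obtain ⟨a1, e1⟩ := hsec x hx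
    obtain ⟨a2, e2⟩ := hrt x hx
    rw [hright a1 _ a2 _ a1.1.1 (e2.trans e1.symm)]
    exact commutatorElement_eq_one_iff_commute.2 ((Commute.refl _).mul_right (Commute.refl _))
  · intro x hx y hy
    obtain ⟨a1, e1⟩ := hsec x hx
    obtain ⟨a2, e2⟩ := hrt y hy
    obtain ⟨a3, e3⟩ := hsec _ (kInv_center D x hx)
    obtain ⟨a4, e4⟩ := hrt _ (kInv_center D y hy)
    rw [k_comm, hleft _ a3 _ (hNk _ a1)
        (by rw [e3, show φ (D.k (sec x)) = D.k (φ (sec x)) by simp [φ, map_pow], e1]) _ a4,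
      hright (hNk _ a1) _ a4 _ (hA.kinv _ a2) (by rw [e4, ← map_pow, e2])]

/-- Idempotent case: exponent larger than four is impossible; exponent four forces the layer into the centre layer. -/
theorem Good.false_of_layer (hY : ∀ a ∈ lay (center P), ∀ b ∈ lay (center P), a * b = b * a)
    (htop : A ≠ ⊤) : False := by
  classical
  haveI := hA.normal
  haveI := D.fin
  obtain ⟨F, _, _, _, n, L, ω, hn, hq, -, hω0, hgen, hLmul, hLk, hL0, hLs⟩ := exists_field D
  have hω : Prim ω := ⟨hω0, hgen⟩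
  have hL1 : L 1 = 0 := by
    have := hLmul 1 (one_mem _) 1 (one_mem _)
    rwa [mul_one, left_eq_add] at this
  have hLinj : ∀ a ∈ center P, ∀ b ∈ center P, L a = L b → a = b := fun a ha b hb h => by
    have := hL0 (a * b) (mul_mem ha hb) (by rw [hLmul a ha b hb, h, CharTwo.add_self_eq_zero])
    rw [mul_eq_one_iff_eq_inv] at this
    exact this.trans (inv_eq_of_mul_eq_one_right (D.center_exp b hb))
  have hroot : ∀ x : F, ∃ r ∈ A, r ^ 4 = 1 ∧ r * r ∈ center P ∧ L (r * r) = x := fun x => by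
    obtain ⟨e, he, hex⟩ := hLs x
    obtain ⟨r, hr, hre, h4⟩ := hA.sq_rt he
    exact ⟨r, hr, h4, hre ▸ he, hre ▸ hex⟩
  choose rt hrtA hrt4 hrtc hrtL using hroot
  have hsqc : ∀ {r}, r ∈ A → r ^ 4 = 1 → r * r ∈ center P := fun {r} _ h4 =>
    D.inv_center _ (by simpa [pow_succ, mul_assoc] using h4)
  -- dependence only on the square
  have hindep : ∀ (z r : P), r ∈ A → r ^ 4 = 1 → L ⁅z, r⁆ = L ⁅z, rt (L (r * r))⁆ := by
    intro z r hr h4
    set s := rt (L (r * r)) with hs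
    have hss : s * s = r * r := hLinj _ (hrtc _) _ (hsqc hr h4) (hrtL _)
    have hrs : r * s⁻¹ ∈ center P := D.inv_center _ (by
      rw [← pow_two, (hA.commute hr (hrtA _)).inv_right.mul_pow, inv_pow, pow_two, pow_two, hss, mul_inv_cancel])
    have h1 := hA.d_mul z (hA.center_le hrs) (hrtA (L (r * r)))
    rw [← hs, inv_mul_cancel_right, commutatorElement_eq_one_iff_commute.2 (mem_center_iff.1 hrs z), one_mul] at h1
    rw [h1]
  let H : P → F →+ F := fun z =>
    { toFun := fun x => L ⁅z, rt x⁆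
      map_zero' := by
        show L ⁅z, rt 0⁆ = 0
        have := hindep z 1 A.one_mem (one_pow 4)
        rw [mul_one, hL1, commutatorElement_one_right, hL1] at this
        exact this.symm
      map_add' := fun x y => by
        show L ⁅z, rt (x + y)⁆ = L ⁅z, rt x⁆ + L ⁅z, rt y⁆
        have h4 : (rt x * rt y) ^ 4 = 1 := by
          rw [(hA.commute (hrtA x) (hrtA y)).mul_pow, hrt4, hrt4, one_mul]
        have := hindep z _ (A.mul_mem (hrtA x) (hrtA y)) h4
        rw [(hA.commute (hrtA y) (hrtA x)).mul_mul_mul_comm, hLmul _ (hrtc x) _ (hrtc y), hrtL, hrtL,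
          hA.d_mul z (hrtA x) (hrtA y), hLmul _ (hA.d_small z (hrtA x) (hrt4 x)) _ (hA.d_small z (hrtA y) (hrt4 y))]
          at this
        exact this.symm }
  have hHapp : ∀ z r, r ∈ A → r ^ 4 = 1 → H z (L (r * r)) = L ⁅z, r⁆ := fun z r hr h4 => (hindep z r hr h4).symm
  have hHmul : ∀ z z', H (z * z') = H z + H z' := fun z z' => AddMonoidHom.ext fun x => by
    show L ⁅z * z', rt x⁆ = L ⁅z, rt x⁆ + L ⁅z', rt x⁆
    rw [Cfsg.Agent.RankOne.comm_mul_left_of_central (hA.d_small z' (hrtA x) (hrt4 x))]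
    exact hLmul _ (hA.d_small z (hrtA x) (hrt4 x)) _ (hA.d_small z' (hrtA x) (hrt4 x))
  have hH1 : H 1 = 0 := by
    have := hHmul 1 1
    rwa [mul_one, left_eq_add] at this
  have hHk : ∀ z x, H (D.k z) (ω * x) = ω * H z x := fun z x => by
    have h4 : (D.k (rt x)) ^ 4 = 1 := by rw [← map_pow, hrt4, map_one]
    have := hHapp (D.k z) _ (hA.kinv _ (hrtA x)) h4
    rw [← map_mul, hLk _ (hrtc x), hrtL, ← k_comm, hLk _ (hA.d_small z (hrtA x) (hrt4 x))] at this
    exact this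
  have hHA : ∀ a ∈ A, H a = 0 := fun a ha => AddMonoidHom.ext fun x => by
    show L ⁅a, rt x⁆ = 0
    rw [commutatorElement_eq_one_iff_commute.2 (hA.commute ha (hrtA x)), hL1]
  have hHker : ∀ z ∈ lay A, H z = 0 → z ∈ A := fun z hz h => hA.faithful hC hz fun r hr h4 => by
    refine hL0 _ (hA.d_small z hr h4) ?_
    rw [← hHapp z r hr h4, h]; rfl
  by_cases hm : m = 2
  swap
  · -- idempotent endomorphisms
    have hm3 : 3 ≤ m := by have := hA.two_le; omega
    have hidem : ∀ z ∈ lay A, ∀ x, H z (H z x) = H z x := by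
      intro z hz x
      obtain ⟨s, hs, hss⟩ := hA.exists_sq 2 (by omega) (rt x) (hrtA x) (hrt4 x)
      have hc := hA.comm_mem z hs
      have hcc : ⁅z, s⁆ * ⁅z, s⁆ = ⁅z, rt x⁆ := by rw [← hA.d_mul z hs hs, hss]
      have hcc' := hA.d_small z (hrtA x) (hrt4 x)
      have hc4 : ⁅z, s⁆ ^ 4 = 1 := by
        rw [show ⁅z, s⁆ ^ 4 = ⁅z, s⁆ * ⁅z, s⁆ * (⁅z, s⁆ * ⁅z, s⁆) by simp [pow_succ, mul_assoc], hcc]
        exact D.center_exp _ hcc'
      have hrel := hA.rel hs hz.1
      rw [mul_assoc, hcc, mul_eq_one_iff_eq_inv] at hrel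
      have h2 := hHapp z _ hc hc4
      rw [hcc, hrel, inv_eq_of_mul_eq_one_right (D.center_exp _ hcc')] at h2
      exact h2
    have hcomm : ∀ z ∈ lay A, ∀ z' ∈ lay A, ∀ x, H z (H z' x) = H z' (H z x) := by
      intro z hz z' hz' x
      have h := hidem _ (mul_mem hz hz') x
      rw [hHmul] at h
      simp only [AddMonoidHom.add_apply, map_add, hidem z hz, hidem z' hz'] at h
      exact CharTwo.add_eq_zero.1 (by linear_combination h)
    haveI : Fintype P := Fintype.ofFinite P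
    have hex : ∀ s : Finset P, ∃ x : F, x ≠ 0 ∧ ∀ z ∈ s, z ∈ lay A → H z x = 0 ∨ H z x = x := by
      intro s
      induction s using Finset.induction with
      | empty => exact ⟨1, one_ne_zero, fun z hz => absurd hz (Finset.notMem_empty z)⟩
      | @insert w s hws ih =>
        obtain ⟨x, hx, hgood⟩ := ih
        by_cases hw : w ∈ lay A → H w x = 0 ∨ H w x = x
        · exact ⟨x, hx, fun z hz => (Finset.mem_insert.1 hz).elim (fun e => e ▸ hw) (hgood z)⟩
        push Not at hw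
        obtain ⟨hwl, hw0, -⟩ := hw
        refine ⟨H w x, hw0, fun z hz hzl => ?_⟩
        rcases Finset.mem_insert.1 hz with rfl | hz
        · exact Or.inr (hidem z hzl x)
        · rw [hcomm z hzl w hwl]
          rcases hgood z hz hzl with h | h <;> rw [h]
          · exact Or.inl (map_zero _)
          · exact Or.inr rfl
    obtain ⟨x₀, hx₀, hgood₀⟩ := hex Finset.univ
    have hscal : ∀ x, ∀ z ∈ lay A, H z x = 0 ∨ H z x = x := by
      intro x
      by_cases hx : x = 0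
      · intro z _; subst hx; exact Or.inl (map_zero _)
      obtain ⟨j, hj⟩ := hgen (x / x₀) (div_ne_zero hx hx₀)
      have hxj : x = ω ^ j * x₀ := by rw [hj, div_mul_cancel₀ _ hx₀]
      subst hxj
      clear hx hj
      induction j with
      | zero => simpa using fun z hz => hgood₀ z (Finset.mem_univ _) hz
      | succ j ih =>
        intro z hz
        obtain ⟨z', hz', rfl⟩ := (kInv_lay D hA.kinv).surj D hz
        rw [pow_succ', mul_assoc, hHk]
        rcases ih z' hz' with h | h <;> rw [h]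
        · exact Or.inl (mul_zero _)
        · exact Or.inr rfl
    have hlin : ∀ z ∈ lay A, ∀ x, H z x = H z 1 * x := by
      intro z hz x
      have hs := map_add (H z) 1 x
      rcases hscal 1 z hz with h1 | h1 <;> rcases hscal x z hz with h2 | h2
      · rw [h1, h2, zero_mul]
      · rw [h1, h2, zero_add] at hs
        rcases hscal (1 + x) z hz with h3 | h3
        · rw [h3] at hs; rw [h1, h2, zero_mul, ← hs]
        · rw [h3] at hs
          exact absurd (add_eq_right.1 hs) one_ne_zero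
      · rw [h1, h2, add_zero] at hs
        rcases hscal (1 + x) z hz with h3 | h3
        · rw [h3] at hs
          exact absurd hs.symm one_ne_zero
        · rw [h3] at hs
          rw [h1, h2, one_mul, add_eq_left.1 hs]
      · rw [h1, h2, one_mul]
    obtain ⟨z, -, hz, hzA⟩ := exists_mem_lay D.fin D.two (A := A) (C := ⊤) (lt_top_iff_ne_top.2 htop)
    refine hzA (hHker z hz (AddMonoidHom.ext fun x => ?_))
    have hz1 : H z 1 = 0 := by
      refine eq_zero_of_invariant D (kInv_lay D hA.kinv) (fun w => H w 1) (fun a _ b _ => ?_) (fun a ha => ?_) hz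
      · show H (a * b) 1 = _
        rw [hHmul]; rfl
      · have h1 := hHk a 1
        rw [mul_one, hlin _ (kInv_lay D hA.kinv a ha) ω] at h1
        exact mul_right_cancel₀ hω0 (h1.trans (mul_comm _ _))
    rw [hlin z hz x, hz1, zero_mul]; rfl
  -- exponent four
  subst hm
  have h4 : ∀ a ∈ A, a ^ 4 = 1 := fun a ha => by simpa using hA.exp a ha
  obtain ⟨z₁, -, hz₁, hz₁A⟩ := exists_mem_lay D.fin D.two (A := A) (C := ⊤) (lt_top_iff_ne_top.2 htop)
  obtain ⟨W, ⟨hAW, hWl, hWk⟩, hWmin⟩ := Set.exists_min_image {U : Subgroup P | A < U ∧ U ≤ lay A ∧ KInv D U}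
    (fun U => Nat.card U) (Set.toFinite _)
    ⟨lay A, lt_of_le_of_ne (le_lay A) (fun e => hz₁A (e.symm ▸ hz₁)), le_rfl, kInv_lay D hA.kinv⟩
  have hkerW : ∀ z ∈ W, H z = 0 → z ∈ A := fun z hz => hHker z (hWl hz)
  let W' : AddSubgroup (F →+ F) :=
    { carrier := {T | ∃ z ∈ W, H z = T}
      zero_mem' := ⟨1, W.one_mem, hH1⟩
      add_mem' := by
        rintro _ _ ⟨z, hz, rfl⟩ ⟨z', hz', rfl⟩
        exact ⟨z * z', W.mul_mem hz hz', hHmul z z'⟩
      neg_mem' := by
        rintro _ ⟨z, hz, rfl⟩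
        exact ⟨z⁻¹, W.inv_mem hz, eq_neg_of_add_eq_zero_left (by rw [← hHmul, inv_mul_cancel, hH1])⟩ }
  haveI : Finite (F →+ F) := Finite.of_injective (fun T => (T : F → F)) DFunLike.coe_injective
  have htw : ∀ z, twist ω (H z) = H (D.k z) := fun z => AddMonoidHom.ext fun e => by
    rw [twist_apply, ← hHk, mul_inv_cancel_left₀ hω0]
  let C : W' →+ W' :=
    { toFun := fun T => ⟨twist ω T.1, by
        obtain ⟨z, hz, hzT⟩ := T.2
        exact ⟨D.k z, hWk z hz, by rw [← hzT, htw]⟩⟩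
      map_zero' := Subtype.ext (map_zero (twist ω))
      map_add' := fun T T' => Subtype.ext (map_add (twist ω) T.1 T'.1) }
  obtain ⟨z₂, hz₂, hz₂A⟩ := SetLike.exists_of_lt hAW
  haveI : Nontrivial W' := ⟨⟨H z₂, z₂, hz₂, rfl⟩, 0, fun h => hz₂A (hkerW z₂ hz₂ (congrArg Subtype.val h))⟩
  obtain ⟨i, μ, hi0, hi, hμ, hmon, hfC⟩ := monomial_family hq (by omega) hω C W'.subtype W'.subtype_injective
    (fun T e => by
      show twist ω T.1 (ω * e) = ω * T.1 e
      rw [twist_apply, inv_mul_cancel_left₀ hω0])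
    (fun T hT => by
      obtain ⟨z, hz, hzT⟩ := T.2
      have h1 : H (D.k z) = H z := by rw [← htw, hzT]; exact congrArg Subtype.val hT
      have h2 : D.k z * z⁻¹ ∈ A := hkerW _ (W.mul_mem (hWk z hz) (W.inv_mem hz)) (by
        rw [hHmul, h1, ← hHmul, mul_inv_cancel, hH1])
      obtain ⟨v, hv, hvw⟩ := exists_twisted D hA.kinv h2
      have h3 : D.k (v⁻¹ * z) = v⁻¹ * z := by
        rw [map_mul, map_inv, show D.k z = (D.k z * z⁻¹) * z by rw [inv_mul_cancel_right], ← hvw]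
        group
      have h4' := fpf D h3
      rw [inv_mul_eq_one] at h4'
      subst h4'
      exact Subtype.ext (hzT.symm.trans (hHA v hv)))
    (fun U hU => by
      let U'' : Subgroup P :=
        { carrier := {z | ∃ h : z ∈ W, (⟨H z, z, h, rfl⟩ : W') ∈ U}
          one_mem' := ⟨W.one_mem, by
            have : (⟨H 1, 1, W.one_mem, rfl⟩ : W') = 0 := Subtype.ext hH1
            rw [this]; exact U.zero_mem⟩
          mul_mem' := by
            rintro a b ⟨ha, ha'⟩ ⟨hb, hb'⟩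
            refine ⟨W.mul_mem ha hb, ?_⟩
            convert U.add_mem ha' hb' using 1
            exact Subtype.ext (hHmul a b)
          inv_mem' := by
            rintro a ⟨ha, ha'⟩
            refine ⟨W.inv_mem ha, ?_⟩
            convert U.neg_mem ha' using 1
            exact Subtype.ext (eq_neg_of_add_eq_zero_left (by rw [← hHmul, inv_mul_cancel, hH1])) }
      have hUW : U'' ≤ W := fun z ⟨h, _⟩ => h
      have hAU : A ≤ U'' := fun a ha => ⟨hAW.le ha, by
        have : (⟨H a, a, hAW.le ha, rfl⟩ : W') = 0 := Subtype.ext (hHA a ha)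
        rw [this]; exact U.zero_mem⟩
      have hUk : KInv D U'' := fun z ⟨hz, hz'⟩ => ⟨hWk z hz, by
        convert hU _ hz' using 1
        exact Subtype.ext (htw z).symm⟩
      rcases eq_or_lt_of_le hAU with he | hlt
      · refine Or.inl ((AddSubgroup.eq_bot_iff_forall _).2 fun T hT => ?_)
        obtain ⟨z, hz, hzT⟩ := T.2
        have hzU : z ∈ U'' := ⟨hz, by convert hT using 1; exact Subtype.ext hzT⟩
        rw [← he] at hzU
        exact Subtype.ext (hzT.symm.trans (hHA z hzU))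
      · refine Or.inr (eq_top_iff.2 fun T _ => ?_)
        obtain ⟨z, hz, hzT⟩ := T.2
        have := eq_of_le_of_card_ge hUW (hWmin U'' ⟨hlt, hUW.trans hWl, hUk⟩)
        obtain ⟨hz', hzU⟩ : z ∈ U'' := this.symm ▸ hz
        convert hzU using 1
        exact Subtype.ext hzT.symm)
  let f : W' →+ F := AddMonoidHom.mk' (fun T => T.1 1) fun T T' => rfl
  have hfinj : Function.Injective f := (injective_iff_map_eq_zero f).2 fun T hT =>
    Subtype.ext (AddMonoidHom.ext fun e => by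
      have := hmon T e
      simp only [AddSubgroup.coe_subtype] at this
      rw [this, show T.1 1 = 0 from hT, zero_mul]; rfl)
  -- squares in the layer are central
  have hsq : ∀ z ∈ W, z * z ∈ center P := by
    intro z hz
    by_cases hzA : z ∈ A
    · exact hsqc hzA (h4 z hzA)
    have ht := (hWl hz).1
    have h1 := hHapp z _ ht (h4 _ ht)
    rw [commutatorElement_eq_one_iff_commute.2 ((Commute.refl z).mul_right (Commute.refl z)), hL1] at h1
    have h2 := hmon ⟨H z, z, hz, rfl⟩ (L (z * z * (z * z)))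
    simp only [AddSubgroup.coe_subtype] at h2
    rw [h1, eq_comm, mul_eq_zero] at h2
    rcases h2 with h2 | h2
    · exact absurd (hkerW z hz (congrArg Subtype.val (hfinj (h2.trans (map_zero f).symm) :
        (⟨H z, z, hz, rfl⟩ : W') = 0))) hzA
    · exact D.inv_center _ (hL0 _ (hsqc ht (h4 _ ht)) (eq_zero_of_pow_eq_zero h2))
  -- commutators
  have hcA : ∀ w : P, ∀ z ∈ W, ⁅w, z⁆ ∈ A := fun w z hz => by
    rw [← commutatorElement_inv]
    exact A.inv_mem ((hWl hz).2 w)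
  let ℓ : P → P → F := fun w z => L (⁅w, z⁆ * ⁅w, z⁆)
  have hsqmul : ∀ c ∈ A, ∀ e ∈ center P, ∀ c' ∈ A,
      L ((c * (e * c')) * (c * (e * c'))) = L (c * c) + L (c' * c') := by
    intro c hc e he c' hc'
    have h1 : (c * (e * c')) * (c * (e * c')) = (c * c) * ((e * e) * (c' * c')) := by
      rw [(hA.commute (A.mul_mem (hA.center_le he) hc') hc).mul_mul_mul_comm,
        (hA.commute hc' (hA.center_le he)).mul_mul_mul_comm]
    rw [h1, D.center_exp e he, one_mul, hLmul _ (hsqc hc (h4 c hc)) _ (hsqc hc' (h4 c' hc'))]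
  have hℓr : ∀ w, ∀ z ∈ W, ∀ z' ∈ W, ℓ w (z * z') = ℓ w z + ℓ w z' := by
    intro w z hz z' hz'
    have hc := hcA w z' hz'
    show L _ = _
    rw [show ⁅w, z * z'⁆ = ⁅w, z⁆ * (⁅z, ⁅w, z'⁆⁆ * ⁅w, z'⁆) by simp only [commutatorElement_def]; group]
    exact hsqmul _ (hcA w z hz) _ (hA.d_small z hc (h4 _ hc)) _ hc
  have hℓl : ∀ w w', ∀ z ∈ W, ℓ (w * w') z = ℓ w z + ℓ w' z := by
    intro w w' z hz
    have hc := hcA w' z hz
    show L _ = _
    have e : ⁅w * w', z⁆ = ⁅w, ⁅w', z⁆⁆ * ⁅w', z⁆ * ⁅w, z⁆ := by simp only [commutatorElement_def]; group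
    rw [e, ← (hA.commute (hcA w z hz) (A.mul_mem (hA.center_le (hA.d_small w hc (h4 _ hc))) hc)).eq]
    exact hsqmul _ (hcA w z hz) _ (hA.d_small w hc (h4 _ hc)) _ hc
  have hℓA : ∀ w, ∀ a ∈ A, ℓ w a = 0 := fun w a ha => by
    show L _ = 0
    rw [D.center_exp _ (hA.d_small w ha (h4 a ha)), hL1]
  have hwd : ∀ w, ∀ z ∈ W, ∀ z' ∈ W, H z = H z' → ℓ w z = ℓ w z' := by
    intro w z hz z' hz' h
    have ha : z'⁻¹ * z ∈ A := hkerW _ (W.mul_mem (W.inv_mem hz') hz) (by
      rw [hHmul, h, ← hHmul, inv_mul_cancel, hH1])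
    have := hℓr w z' hz' _ (W.mul_mem (W.inv_mem hz') hz)
    rwa [mul_inv_cancel_left, hℓA w _ ha, add_zero] at this
  choose pick hpickW hpickH using fun T : W' => T.2
  let Lw : P → W' →+ F := fun w => AddMonoidHom.mk' (fun T => ℓ w (pick T)) fun T T' => by
    rw [← hℓr w _ (hpickW T) _ (hpickW T')]
    exact hwd w _ (hpickW _) _ (W.mul_mem (hpickW T) (hpickW T')) (by rw [hHmul, hpickH, hpickH, hpickH]; rfl)
  have hLw : ∀ w T, f T * Lw w T ^ 2 ^ i = Lw w T := by
    intro w T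
    set z := pick T with hz'
    have hzW : z ∈ W := hpickW T
    set c := ⁅w, z⁆ with hc'
    have hc : c ∈ A := hcA w z hzW
    have h1 : c * (⁅z, c⁆ * c) = 1 := by
      have h2 : w * (z * z) * w⁻¹ = z * z := by
        rw [mem_center_iff.1 (hsq z hzW) w, mul_inv_cancel_right]
      calc c * (⁅z, c⁆ * c) = w * (z * z) * w⁻¹ * (z * z)⁻¹ := by
            rw [hc']; simp only [commutatorElement_def]; group
        _ = 1 := by rw [h2, mul_inv_cancel]
    have h3 : ⁅z, c⁆ = c * c := by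
      have h5 : ⁅z, c⁆ * c = c⁻¹ := eq_inv_of_mul_eq_one_right h1
      rw [eq_mul_inv_of_mul_eq h5, ← mul_inv_rev]
      exact inv_eq_of_mul_eq_one_right (D.center_exp _ (hsqc hc (h4 c hc)))
    have h6 := hHapp z c hc (h4 c hc)
    rw [h3, hpickH T] at h6
    have h7 := hmon T (L (c * c))
    simp only [AddSubgroup.coe_subtype] at h7
    exact h7.symm.trans h6
  set T₀ : W' := ⟨H z₂, z₂, hz₂, rfl⟩ with hT₀
  have hT₀0 : T₀ ≠ 0 := fun h => hz₂A (hkerW z₂ hz₂ (congrArg Subtype.val h))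
  have hf0 : f T₀ ≠ 0 := fun h => hT₀0 (hfinj (h.trans (map_zero f).symm))
  have hfC' : ∀ T, f (C T) = μ * f T := hfC
  let ψ : P → F := fun w => Lw w T₀ / f T₀ ^ 2
  have hψ : ∀ w, ∀ T, Lw w T = ψ w * f T ^ 2 := by
    intro w T
    by_cases h : Lw w = 0
    · simp [ψ, h]
    have hr := section_rigid hq hω (fun T => C T) hi0 hi hμ f hfinj hfC' (Lw w) (hLw w) h
    show _ = Lw w T₀ / f T₀ ^ 2 * _
    rw [hr T, hr T₀, div_self (pow_ne_zero _ hf0), one_mul]
  have hψ01 : ∀ w, ψ w = 0 ∨ ψ w = 1 := by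
    intro w
    by_cases h : Lw w = 0
    · exact Or.inl (by simp [ψ, h])
    right
    show Lw w T₀ / f T₀ ^ 2 = 1
    rw [section_rigid hq hω (fun T => C T) hi0 hi hμ f hfinj hfC' (Lw w) (hLw w) h T₀,
      div_self (pow_ne_zero _ hf0)]
  have hψ0 : ∀ w, ψ w = 0 := fun w => by
    refine eq_zero_of_invariant D (kInv_top D) ψ (fun a _ b _ => ?_) (fun a _ => ?_) (Subgroup.mem_top w)
    · show Lw (a * b) T₀ / _ = _
      rw [show Lw (a * b) T₀ = Lw a T₀ + Lw b T₀ from hℓl a b _ (hpickW T₀), add_div]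
    · have h1 : Lw (D.k a) (C T₀) = ω * Lw a T₀ := by
        show ℓ (D.k a) (pick (C T₀)) = ω * ℓ a (pick T₀)
        rw [hwd (D.k a) _ (hpickW _) (D.k (pick T₀)) (hWk _ (hpickW _))
          (by rw [hpickH, ← htw, hpickH]; rfl)]
        show L (⁅D.k a, D.k (pick T₀)⁆ * ⁅D.k a, D.k (pick T₀)⁆) = _
        rw [← k_comm, ← map_mul, hLk _ (hsqc (hcA a _ (hpickW _)) (h4 _ (hcA a _ (hpickW _))))]
      rw [hψ (D.k a), hψ a, hfC'] at h1
      have hμ0 : μ ≠ 0 := fun h0 => hω0 (by rw [← hμ, h0, zero_mul])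
      rcases hψ01 a with ha | ha <;> rcases hψ01 (D.k a) with hb | hb <;> rw [ha, hb] at h1 ⊢
      · exfalso
        simp only [one_mul, zero_mul, mul_zero] at h1
        exact pow_ne_zero 2 (mul_ne_zero hμ0 hf0) h1
      · exfalso
        simp only [one_mul, zero_mul] at h1
        exact mul_ne_zero hω0 (pow_ne_zero 2 hf0) h1.symm
  have hYA : lay (center P) ≤ A := fun y hy => hC (mem_centralizer_iff.2 fun a ha =>
    hY a ⟨hsqc ha (h4 a ha), fun w => by
      rw [← commutatorElement_inv]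
      exact inv_mem (hA.d_small w ha (h4 a ha))⟩ y hy)
  refine hz₂A (hYA ⟨hsq z₂ hz₂, fun w => ?_⟩)
  have h1 : ℓ w z₂ = 0 := by
    rw [hwd w z₂ hz₂ (pick T₀) (hpickW _) (hpickH T₀).symm]
    show Lw w T₀ = 0
    rw [hψ w, hψ0, zero_mul]
  rw [← commutatorElement_inv]
  exact inv_mem (D.inv_center _ (hL0 _ (hsqc (hcA w _ hz₂) (h4 _ (hcA w _ hz₂))) h1))

end Good

/-- Squares and commutators of a Suzuki 2-group are central. -/
theorem lay_center_eq_top (D : Setup P) : lay (center P) = ⊤ := by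
  classical
  haveI := D.fin
  by_contra htop
  set Y := lay (center P) with hY
  obtain ⟨x, -, hx, hxY⟩ := exists_mem_lay D.fin D.two (A := Y) (C := ⊤) (lt_top_iff_ne_top.2 htop)
  set R := Y ⊓ centralizer (Y : Set P) with hR
  have hact : ∀ w : P, ∀ y ∈ Y, w * y * w⁻¹ = ⁅y, w⁆⁻¹ * y := fun w y _ => by
    simp only [commutatorElement_def]; group
  have htwo : ∀ u v : P, ∀ y ∈ Y, u * (v * y * v⁻¹) * u⁻¹ = ⁅y, v⁆⁻¹ * ⁅y, u⁆⁻¹ * y := fun u v y hy => by
    rw [hact v y hy, show u * (⁅y, v⁆⁻¹ * y) * u⁻¹ = u * ⁅y, v⁆⁻¹ * (y * u⁻¹) by simp only [mul_assoc],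
      mem_center_iff.1 (inv_mem (hy.2 v)) u, show ⁅y, v⁆⁻¹ * u * (y * u⁻¹) = ⁅y, v⁆⁻¹ * (u * y * u⁻¹) by
        simp only [mul_assoc], hact u y hy, ← mul_assoc]
  have hxc : ∀ w, ⁅x, w⁆ ∈ R := by
    refine fun w => ⟨hx.2 w, mem_centralizer_iff.2 fun y hy => ?_⟩
    set y' := x⁻¹ * (w⁻¹ * y * w) * x with hy'
    have hy'Y : y' ∈ Y := by
      have h1 := (inferInstance : (lay (center P)).Normal).conj_mem y hy w⁻¹
      have h2 := (inferInstance : (lay (center P)).Normal).conj_mem _ h1 x⁻¹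
      simp only [inv_inv] at h2
      exact h2
    have h2 : x * (w * y' * w⁻¹) * x⁻¹ = w * (x * y' * x⁻¹) * w⁻¹ := by
      rw [htwo x w y' hy'Y, htwo w x y' hy'Y, mem_center_iff.1 (inv_mem (hy'Y.2 x)) ⁅y', w⁆⁻¹]
    have h3 : ⁅x, w⁆ * y * ⁅x, w⁆⁻¹ = y := by
      calc ⁅x, w⁆ * y * ⁅x, w⁆⁻¹ = x * (w * y' * w⁻¹) * x⁻¹ := by
            rw [hy']; simp only [commutatorElement_def]; group
        _ = w * (x * y' * x⁻¹) * w⁻¹ := h2
        _ = y := by rw [hy']; group
    exact (mul_inv_eq_iff_eq_mul.1 h3).symm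
  have hxx : x * x ∈ R := ⟨hx.1, mem_centralizer_iff.2 fun y hy => by
    have h1 : x * (x * y * x⁻¹) * x⁻¹ = y := by rw [htwo x x y hy, D.center_exp _ (inv_mem (hy.2 x)), one_mul]
    calc y * (x * x) = x * (x * y * x⁻¹) * x⁻¹ * (x * x) := by rw [h1]
      _ = x * x * y := by group⟩
  obtain ⟨r₀, hr₀, hr₀c⟩ : ∃ r ∈ R, r ∉ center P := by
    by_contra hno
    push Not at hno
    exact hxY ⟨hno _ hxx, fun w => hno _ (hxc w)⟩
  have hYk : KInv D Y := kInv_lay D (kInv_center D)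
  have hRk : KInv D R := hYk.inf D (hYk.centralizer D)
  have hsurj : ∀ e ∈ center P, ∃ r ∈ R, r * r = e :=
    surj_of_invariant (fun r => r * r) R hRk (fun r hr => hr.1.1) (one_mul 1) (fun r _ => (map_mul D.k r r).symm)
      ⟨r₀, hr₀, fun h => hr₀c (D.inv_center _ h)⟩
  have hcent : center P ≤ Y := le_lay _
  have hab : ∀ a ∈ Y, ∀ b ∈ Y, a * b = b * a := by
    intro a ha b hb
    obtain ⟨r, hr, hrr⟩ := hsurj _ ha.1
    have hc : Commute a r := mem_centralizer_iff.1 hr.2 a ha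
    have h1 : a * r⁻¹ ∈ center P := D.inv_center _ (by
      rw [← pow_two, hc.inv_right.mul_pow, inv_pow, pow_two, pow_two, hrr, mul_inv_cancel])
    have hbr : b * r = r * b := mem_centralizer_iff.1 hr.2 b hb
    have ha' : a = (a * r⁻¹) * r := by rw [inv_mul_cancel_right]
    rw [ha', mul_assoc, ← hbr, ← mul_assoc, ← mem_center_iff.1 h1 b, mul_assoc]
  have hG : Good D Y 2 :=
    { two_le := le_rfl
      normal := inferInstance
      kinv := hYk
      comm := hab
      exp := fun a ha => by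
        rw [pow_two 2, pow_mul, pow_two, pow_two]; exact D.center_exp _ ha.1
      surj := fun e he => by
        obtain ⟨r, hr, hrr⟩ := hsurj e he
        exact ⟨r, hr.1, by rw [show 2 ^ (2 - 1) = 2 from rfl, pow_two]; exact hrr⟩ }
  obtain ⟨A, m, hA, hmax⟩ := exists_maximal ⟨Y, 2, hG⟩
  refine hA.false_of_layer (centralizer_le_of_maximal hA hmax) hab fun h => ?_
  obtain ⟨a, b, hnab⟩ := D.nc
  exact hnab (hA.comm a (h ▸ mem_top a) b (h ▸ mem_top b))

end Cfsg.Agent.Suzuki2
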