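import Cfsg.Agent.Suzuki2.Basic

/-!
Layers over an invariant normal subgroup and maximal homocyclic normal subgroups of a Suzuki 2-group.
-/

set_option autoImplicit false

namespace Cfsg.Agent.Suzuki2

open Subgroup
open scoped commutatorElement

universe u

variable {P : Type u} [Group P] (D : Setup P)

/-- The central elements of exponent two modulo `A`. -/
def lay (A : Subgroup P) [A.Normal] : Subgroup P where
  carrier := {z | z * z ∈ A ∧ ∀ w, ⁅z, w⁆ ∈ A}
  one_mem' := ⟨by rw [one_mul]; exact A.one_mem, fun w => by rw [commutatorElement_one_left]; exact A.one_mem⟩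
  mul_mem' := by
    rintro a b ⟨ha, ha'⟩ ⟨hb, hb'⟩
    refine ⟨?_, fun w => ?_⟩
    · rw [show a * b * (a * b) = (a * ⁅b, a⁆ * a⁻¹) * (a * a) * (b * b) by
        simp only [commutatorElement_def]; group]
      exact A.mul_mem (A.mul_mem (Normal.conj_mem inferInstance _ (hb' a) a) ha) hb
    · rw [show ⁅a * b, w⁆ = (a * ⁅b, w⁆ * a⁻¹) * ⁅a, w⁆ by simp only [commutatorElement_def]; group]
      exact A.mul_mem (Normal.conj_mem inferInstance _ (hb' w) a) (ha' w)
  inv_mem' := by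
    rintro a ⟨ha, ha'⟩
    refine ⟨by rw [← mul_inv_rev]; exact A.inv_mem ha, fun w => ?_⟩
    rw [show ⁅a⁻¹, w⁆ = a⁻¹ * ⁅a, w⁆⁻¹ * a⁻¹⁻¹ by simp only [commutatorElement_def]; group]
    exact Normal.conj_mem inferInstance _ (A.inv_mem (ha' w)) _

theorem mem_lay {A : Subgroup P} [A.Normal] {z : P} : z ∈ lay A ↔ z * z ∈ A ∧ ∀ w, ⁅z, w⁆ ∈ A := Iff.rfl

theorem le_lay (A : Subgroup P) [A.Normal] : A ≤ lay A := fun a ha => ⟨A.mul_mem ha ha, fun w => by
  rw [show ⁅a, w⁆ = a * (w * a⁻¹ * w⁻¹) by simp only [commutatorElement_def]; group]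
  exact A.mul_mem ha (Normal.conj_mem inferInstance _ (A.inv_mem ha) w)⟩

theorem normal_of_lay {A H : Subgroup P} [A.Normal] (h1 : A ≤ H) (h2 : H ≤ lay A) : H.Normal :=
  ⟨fun z hz w => by
    rw [show w * z * w⁻¹ = ⁅z, w⁆⁻¹ * z by simp only [commutatorElement_def]; group]
    exact H.mul_mem (h1 (A.inv_mem ((h2 hz).2 w))) hz⟩

instance (A : Subgroup P) [A.Normal] : (lay A).Normal := normal_of_lay (le_lay A) le_rfl

theorem kInv_lay {A : Subgroup P} [A.Normal] (hA : KInv D A) : KInv D (lay A) := fun z hz => by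
  refine ⟨by rw [← map_mul]; exact hA _ hz.1, fun w => ?_⟩
  obtain ⟨w, rfl⟩ := D.k.surjective w
  have := hA _ (hz.2 w)
  simpa [commutatorElement_def] using this

/-- A normal subgroup strictly above `A` meets the layer over `A` outside `A`. -/
theorem exists_mem_lay (hfin : Finite P) (h2 : IsPGroup 2 P) {A C : Subgroup P} [A.Normal] [C.Normal] (hAC : A < C) :
    ∃ z ∈ C, z ∈ lay A ∧ z ∉ A := by
  haveI : Fact (Nat.Prime 2) := ⟨Nat.prime_two⟩
  have hq := h2.to_quotient A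
  haveI := hq.isNilpotent
  haveI : (C.map (QuotientGroup.mk' A)).Normal := Normal.map inferInstance _ (QuotientGroup.mk'_surjective A)
  obtain ⟨c, hc, hcA⟩ := SetLike.exists_of_lt hAC
  have hne : C.map (QuotientGroup.mk' A) ≠ ⊥ := fun h => hcA ((QuotientGroup.eq_one_iff c).1 (by
    have : QuotientGroup.mk' A c ∈ C.map (QuotientGroup.mk' A) := mem_map_of_mem _ hc
    rwa [h, mem_bot] at this))
  have hI := Cfsg.Agent.Core.inf_center_ne_bot hne
  set I := C.map (QuotientGroup.mk' A) ⊓ center (P ⧸ A)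
  haveI : Nontrivial I := (Subgroup.nontrivial_iff_ne_bot I).2 hI
  obtain ⟨n, hn, hcard⟩ := (hq.to_subgroup I).nontrivial_iff_card.1 inferInstance
  obtain ⟨q, hord⟩ := exists_prime_orderOf_dvd_card' (G := I) 2 (hcard ▸ dvd_pow_self 2 hn.ne')
  obtain ⟨z, hz, hzq⟩ := q.2.1
  rw [← Subgroup.orderOf_coe, ← hzq] at hord
  have hzc : QuotientGroup.mk' A z ∈ center (P ⧸ A) := hzq ▸ q.2.2
  refine ⟨z, hz, ⟨(QuotientGroup.eq_one_iff _).1 ?_, fun w => (QuotientGroup.eq_one_iff _).1 ?_⟩, fun h => ?_⟩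
  · show QuotientGroup.mk' A (z * z) = 1
    rw [map_mul, ← pow_two, ← hord, pow_orderOf_eq_one]
  · show QuotientGroup.mk' A ⁅z, w⁆ = 1
    rw [map_commutatorElement]
    exact commutatorElement_eq_one_iff_commute.2 (mem_center_iff.1 hzc _).symm
  · have h' : QuotientGroup.mk' A z = 1 := (QuotientGroup.eq_one_iff z).2 h
    rw [h', orderOf_one] at hord
    omega

/-- A normal invariant homocyclic subgroup of exponent `2 ^ m` having the centre as socle. -/
structure Good (A : Subgroup P) (m : ℕ) : Prop where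
  two_le : 2 ≤ m
  normal : A.Normal
  kinv : KInv D A
  comm : ∀ a ∈ A, ∀ b ∈ A, a * b = b * a
  exp : ∀ a ∈ A, a ^ 2 ^ m = 1
  surj : ∀ e ∈ center P, ∃ a ∈ A, a ^ 2 ^ (m - 1) = e

variable {D} {A : Subgroup P} {m : ℕ} (hA : Good D A m)
include hA

theorem Good.center_le : center P ≤ A := fun e he => by
  obtain ⟨a, ha, rfl⟩ := hA.surj e he
  exact A.pow_mem ha _

theorem Good.commute {a b : P} (ha : a ∈ A) (hb : b ∈ A) : Commute a b := hA.comm a ha b hb

theorem Good.exists_sq : ∀ j < m, ∀ a ∈ A, a ^ 2 ^ j = 1 → ∃ b ∈ A, b * b = a := by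
  intro j
  induction j with
  | zero =>
    intro _ a _ h
    exact ⟨1, A.one_mem, by rw [pow_zero, pow_one] at h; rw [h, mul_one]⟩
  | succ j ih =>
    intro hj a ha h
    obtain ⟨b, hb, hbe⟩ := hA.surj (a ^ 2 ^ j) (D.inv_center _ (by rw [← pow_add, ← two_mul, ← pow_succ']; exact h))
    obtain ⟨i, hi⟩ : ∃ i, m - 1 = j + (i + 1) := ⟨m - 2 - j, by omega⟩
    have hb' : b ^ 2 ^ (i + 1) ∈ A := A.pow_mem hb _
    obtain ⟨c, hc, hcc⟩ := ih (by omega) (a * (b ^ 2 ^ (i + 1))⁻¹) (A.mul_mem ha (A.inv_mem hb')) (by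
      rw [(hA.commute ha hb').inv_right.mul_pow, inv_pow, ← pow_mul, ← pow_add, add_comm (i + 1), ← hi, hbe,
        mul_inv_cancel])
    refine ⟨c * b ^ 2 ^ i, A.mul_mem hc (A.pow_mem hb _), ?_⟩
    rw [(hA.commute hc (A.pow_mem hb _)).symm.mul_mul_mul_comm c, hcc, ← pow_add, ← two_mul, ← pow_succ',
      inv_mul_cancel_right]

theorem Good.exists_root : ∀ (r j : ℕ), j + r ≤ m → ∀ a ∈ A, a ^ 2 ^ j = 1 → ∃ b ∈ A, b ^ 2 ^ r = a := by
  intro r
  induction r with
  | zero => intro j _ a ha _; exact ⟨a, ha, by simp⟩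
  | succ r ih =>
    intro j hj a ha h
    obtain ⟨b, hb, hbb⟩ := hA.exists_sq j (by omega) a ha h
    obtain ⟨c, hc, hcb⟩ := ih (j + 1) (by omega) b hb (by rw [pow_succ', pow_mul, pow_two, hbb, h])
    exact ⟨c, hc, by rw [pow_succ, pow_mul, hcb, pow_two, hbb]⟩

omit hA

/-- The centre is the image of any nontrivial invariant set of central values. -/
theorem surj_of_invariant (φ : P → P) (H : Subgroup P) (hH : KInv D H) (hφ : ∀ z ∈ H, φ z ∈ center P)
    (hone : φ 1 = 1) (hk : ∀ z ∈ H, φ (D.k z) = D.k (φ z)) (hne : ∃ z ∈ H, φ z ≠ 1) :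
    ∀ e ∈ center P, ∃ z ∈ H, φ z = e := by
  intro e he
  by_cases he1 : e = 1
  · exact ⟨1, H.one_mem, hone.trans he1.symm⟩
  obtain ⟨z, hz, hz1⟩ := hne
  obtain ⟨j, hj⟩ := D.trans (φ z) e hz1 (D.center_exp _ (hφ z hz)) he1 (D.center_exp _ he)
  have hit : ∀ j : ℕ, (D.k ^ j) z ∈ H ∧ φ ((D.k ^ j) z) = (D.k ^ j) (φ z) := by
    intro j
    induction j with
    | zero => exact ⟨hz, rfl⟩
    | succ j ih =>
      rw [pow_succ']
      exact ⟨hH _ ih.1, by rw [MulAut.mul_apply, hk _ ih.1, ih.2, MulAut.mul_apply]⟩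
  exact ⟨_, (hit j).1, (hit j).2.trans hj⟩

/-- An alternating equivariant biadditive map on the centre is trivial. -/
theorem alt_trivial (f : P → P → P) (hf : ∀ x ∈ center P, ∀ y ∈ center P, f x y ∈ center P)
    (hl : ∀ x ∈ center P, ∀ x' ∈ center P, ∀ y ∈ center P, f (x * x') y = f x y * f x' y)
    (hr : ∀ x ∈ center P, ∀ y ∈ center P, ∀ y' ∈ center P, f x (y * y') = f x y * f x y')
    (halt : ∀ x ∈ center P, f x x = 1)
    (heq : ∀ x ∈ center P, ∀ y ∈ center P, f (D.k x) (D.k y) = D.k (f x y))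
    {x y : P} (hx : x ∈ center P) (hy : y ∈ center P) : f x y = 1 := by
  classical
  haveI := D.fin
  let K := Subgroup.zpowers D.k
  letI : CommGroup K := IsCyclic.commGroup
  have hc : ∀ x, x * x = 1 → x ∈ center P := D.inv_center
  have hkj : ∀ (j : ℕ) x, x ∈ center P → (D.k ^ j) x ∈ center P := fun j x hx => by
    induction j with
    | zero => exact hx
    | succ j ih => rw [pow_succ']; exact kInv_center D _ ih
  have heqj : ∀ (j : ℕ) x y, x ∈ center P → y ∈ center P →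
      f ((D.k ^ j) x) ((D.k ^ j) y) = (D.k ^ j) (f x y) := fun j x y hx hy => by
    induction j with
    | zero => rfl
    | succ j ih =>
      rw [pow_succ', MulAut.mul_apply, MulAut.mul_apply, heq _ (hkj j x hx) _ (hkj j y hy), ih]
      rfl
  refine Cfsg.Agent.RankOne.alternating_trivial (ρ := K.subtype) (by rw [Nat.card_zpowers]; exact odd_orderOf D)
    (fun x hx w => (mem_center_iff.1 (hc x hx) w).symm) (fun x y hx hx2 hy hy2 => ?_) f
    (fun x y hx hy => D.center_exp _ (hf x (hc x hx) y (hc y hy)))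
    (fun x x' y hx hx' hy => hl x (hc x hx) x' (hc x' hx') y (hc y hy))
    (fun x y y' hx hy hy' => hr x (hc x hx) y (hc y hy) y' (hc y' hy'))
    (fun x hx => halt x (hc x hx)) (fun g x y hx hy => ?_) (D.center_exp x hx) (D.center_exp y hy)
  · obtain ⟨j, hj⟩ := D.trans x y hx hx2 hy hy2
    exact ⟨⟨D.k ^ j, Subgroup.pow_mem _ (mem_zpowers _) j⟩, hj⟩
  · obtain ⟨j, hj⟩ : ∃ j : ℕ, D.k ^ j = (g : MulAut P) :=
      (Submonoid.mem_powers_iff _ _).1 (mem_powers_iff_mem_zpowers.2 g.2)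
    show f ((g : MulAut P) x) ((g : MulAut P) y) = (g : MulAut P) (f x y)
    rw [← hj]
    exact heqj j x y (hc x hx) (hc y hy)

theorem exists_maximal (h : ∃ A : Subgroup P, ∃ m, Good D A m) :
    ∃ A : Subgroup P, ∃ m, Good D A m ∧ ∀ B n, Good D B n → A ≤ B → B = A := by
  haveI := D.fin
  obtain ⟨A, ⟨m, hA⟩, hmax⟩ := Set.exists_max_image {A : Subgroup P | ∃ m, Good D A m} (fun A => Nat.card A)
    (Set.toFinite _) h
  exact ⟨A, m, hA, fun B n hB hle => (eq_of_le_of_card_ge hle (hmax B ⟨n, hB⟩)).symm⟩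

/-- A maximal homocyclic normal subgroup is its own centralizer. -/
theorem centralizer_le_of_maximal (hA : Good D A m) (hmax : ∀ B n, Good D B n → A ≤ B → B = A) :
    centralizer (A : Set P) ≤ A := by
  haveI := D.fin
  haveI := hA.normal
  by_contra hnot
  have hC : A < centralizer (A : Set P) := by
    refine lt_of_le_of_ne (fun a ha => mem_centralizer_iff.2 fun b hb => hA.comm b hb a ha) fun e => hnot e.ge
  obtain ⟨z₀, hz₀C, hz₀L, hz₀A⟩ := exists_mem_lay D.fin D.two hC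
  set N := lay A ⊓ centralizer (A : Set P) with hN
  have hAN : A ≤ N := le_inf (le_lay A) hC.le
  have hcA : ∀ z ∈ N, ∀ a ∈ A, Commute z a := fun z hz a ha => (mem_centralizer_iff.1 hz.2 a ha).symm
  have hnsq : ∀ z ∈ N, z ∉ A → ¬ ∃ b ∈ A, b * b = z * z := by
    rintro z hz hzA ⟨b, hb, hbb⟩
    have h1 : z * b⁻¹ * (z * b⁻¹) = 1 := by
      rw [← pow_two, ((hcA z hz b hb).inv_right).mul_pow, inv_pow, pow_two, pow_two, hbb, mul_inv_cancel]
    have := A.mul_mem (hA.center_le (D.inv_center _ h1)) hb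
    rw [inv_mul_cancel_right] at this
    exact hzA this
  have hcomm2 : ∀ z ∈ N, ∀ z' ∈ N, ⁅z, z'⁆ ∈ center P := fun z hz z' hz' => D.inv_center _ (by
    have hc : Commute z ⁅z, z'⁆ := hcA z hz _ (hz.1.2 z')
    calc ⁅z, z'⁆ * ⁅z, z'⁆ = z * ⁅z, z'⁆ * z⁻¹ * ⁅z, z'⁆ := by rw [hc.eq, mul_inv_cancel_right]
      _ = ⁅z * z, z'⁆ := by simp only [commutatorElement_def]; group
      _ = 1 := commutatorElement_eq_one_iff_commute.2 (hcA z' hz' _ hz.1.1).symm)
  let φ : P → P := fun z => (z * z) ^ 2 ^ (m - 1)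
  have hφc : ∀ z ∈ N, φ z ∈ center P := fun z hz => D.inv_center _ (by
    show (z * z) ^ 2 ^ (m - 1) * (z * z) ^ 2 ^ (m - 1) = 1
    rw [← pow_add, ← two_mul, ← pow_succ', Nat.sub_add_cancel (by have := hA.two_le; omega)]
    exact hA.exp _ hz.1.1)
  have hm1 : ∀ c ∈ center P, c ^ 2 ^ (m - 1) = 1 := fun c hc => by
    obtain ⟨i, hi⟩ : ∃ i, m - 1 = i + 1 := ⟨m - 2, by have := hA.two_le; omega⟩
    rw [hi, pow_succ', pow_mul, pow_two, D.center_exp c hc, one_pow]
  have hφmul : ∀ z ∈ N, ∀ z' ∈ N, φ (z * z') = φ z * φ z' := by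
    intro z hz z' hz'
    have hc := hcomm2 z' hz' z hz
    have e : z * z' * (z * z') = ⁅z', z⁆ * ((z * z) * (z' * z')) := by
      calc z * z' * (z * z') = z * ⁅z', z⁆ * (z * z' * z') := by simp only [commutatorElement_def]; group
        _ = ⁅z', z⁆ * z * (z * z' * z') := by rw [mem_center_iff.1 hc z]
        _ = _ := by simp only [mul_assoc]
    show (z * z' * (z * z')) ^ _ = _
    rw [e, Commute.mul_pow (mem_center_iff.1 hc _).symm, hm1 _ hc, one_mul, (hA.commute hz.1.1 hz'.1.1).mul_pow]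
  have hker : ∀ z ∈ N, φ z = 1 → z ∈ A := fun z hz h => by
    by_contra hzA
    exact hnsq z hz hzA (hA.exists_sq (m - 1) (by have := hA.two_le; omega) _ hz.1.1 h)
  have hNk : KInv D N := (kInv_lay D hA.kinv).inf D (hA.kinv.centralizer D)
  have hφk : ∀ z : P, φ (D.k z) = D.k (φ z) := fun z => by simp [φ, map_pow]
  have hz₀N : z₀ ∈ N := ⟨hz₀L, hz₀C⟩
  have hsurj : ∀ e ∈ center P, ∃ z ∈ N, φ z = e :=
    surj_of_invariant φ N hNk hφc (by simp [φ]) (fun z _ => hφk z) ⟨z₀, hz₀N, fun h => hz₀A (hker z₀ hz₀N h)⟩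
  classical
  let sec : P → P := fun e => if h : e ∈ center P then (hsurj e h).choose else 1
  have hsec : ∀ e ∈ center P, sec e ∈ N ∧ φ (sec e) = e := fun e he => by
    simp only [sec, dif_pos he]
    exact (hsurj e he).choose_spec
  have hmodA : ∀ z ∈ N, ∀ z' ∈ N, φ z = φ z' → ∀ w ∈ N, ⁅z, w⁆ = ⁅z', w⁆ ∧ ⁅w, z⁆ = ⁅w, z'⁆ := by
    intro z hz z' hz' h w hw
    have ha : z'⁻¹ * z ∈ A := by
      refine hker _ (N.mul_mem (N.inv_mem hz') hz) ?_
      have h1 := hφmul z' hz' (z'⁻¹ * z) (N.mul_mem (N.inv_mem hz') hz)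
      rw [mul_inv_cancel_left, h, left_eq_mul] at h1
      exact h1
    have hz_eq : z = z' * (z'⁻¹ * z) := by group
    have hcw : Commute w (z'⁻¹ * z) := hcA w hw _ ha
    generalize z'⁻¹ * z = a at hz_eq hcw ha
    have hcz : Commute z' a := hcA z' hz' a ha
    subst hz_eq
    refine ⟨?_, ?_⟩
    · rw [show ⁅z' * a, w⁆ = z' * (a * w * a⁻¹) * z'⁻¹ * w⁻¹ by simp only [commutatorElement_def]; group,
        hcw.symm.eq, mul_inv_cancel_right, commutatorElement_def]
    · rw [show ⁅w, z' * a⁆ = w * z' * (a * w⁻¹ * a⁻¹) * z'⁻¹ by simp only [commutatorElement_def]; group,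
        hcw.inv_left.symm.eq, mul_inv_cancel_right, commutatorElement_def]
  have hab : ∀ z ∈ N, ∀ z' ∈ N, ⁅z, z'⁆ = 1 := by
    intro z hz z' hz'
    obtain ⟨h1, h1'⟩ := hsec _ (hφc z hz)
    obtain ⟨h2, h2'⟩ := hsec _ (hφc z' hz')
    rw [(hmodA z hz _ h1 h1'.symm z' hz').1, (hmodA z' hz' _ h2 h2'.symm _ h1).2]
    refine alt_trivial (D := D) (fun x y => ⁅sec x, sec y⁆) (fun x hx y hy => hcomm2 _ (hsec x hx).1 _ (hsec y hy).1)
      ?_ ?_ (fun x _ => commutatorElement_self _) ?_ (hφc z hz) (hφc z' hz')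
    · intro x hx x' hx' y hy
      obtain ⟨a1, e1⟩ := hsec x hx
      obtain ⟨a2, e2⟩ := hsec x' hx'
      obtain ⟨a3, -⟩ := hsec y hy
      obtain ⟨a4, e4⟩ := hsec _ ((center P).mul_mem hx hx')
      rw [(hmodA _ a4 _ (N.mul_mem a1 a2) (by rw [e4, hφmul _ a1 _ a2, e1, e2]) _ a3).1]
      exact Cfsg.Agent.RankOne.comm_mul_left_of_central (hcomm2 _ a2 _ a3)
    · intro x hx y hy y' hy'
      obtain ⟨a1, -⟩ := hsec x hx
      obtain ⟨a2, e2⟩ := hsec y hy
      obtain ⟨a3, e3⟩ := hsec y' hy'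
      obtain ⟨a4, e4⟩ := hsec _ ((center P).mul_mem hy hy')
      rw [(hmodA _ a4 _ (N.mul_mem a2 a3) (by rw [e4, hφmul _ a2 _ a3, e2, e3]) _ a1).2]
      exact Cfsg.Agent.RankOne.comm_mul_right_of_central (hcomm2 _ a1 _ a3)
    · intro x hx y hy
      obtain ⟨a1, e1⟩ := hsec x hx
      obtain ⟨a2, e2⟩ := hsec y hy
      obtain ⟨a3, e3⟩ := hsec _ (kInv_center D x hx)
      obtain ⟨a4, e4⟩ := hsec _ (kInv_center D y hy)
      rw [(hmodA _ a3 _ (hNk _ a1) (by rw [e3, hφk, e1]) _ a4).1,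
        (hmodA _ a4 _ (hNk _ a2) (by rw [e4, hφk, e2]) _ (hNk _ a1)).2]
      simp [commutatorElement_def]
  have hG : Good D N (m + 1) :=
    { two_le := by have := hA.two_le; omega
      normal := normal_of_lay hAN inf_le_left
      kinv := hNk
      comm := fun z hz z' hz' => commutatorElement_eq_one_iff_commute.1 (hab z hz z' hz')
      exp := fun z hz => by rw [pow_succ', pow_mul, pow_two]; exact hA.exp _ hz.1.1
      surj := fun e he => by
        obtain ⟨z, hz, hze⟩ := hsurj e he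
        refine ⟨z, hz, ?_⟩
        obtain ⟨i, hi⟩ : ∃ i, m = i + 1 := ⟨m - 1, by have := hA.two_le; omega⟩
        rw [← hze, show m + 1 - 1 = i + 1 by omega, pow_succ', pow_mul, pow_two]
        simp [φ, hi] }
  exact hz₀A (hmax N (m + 1) hG hAN ▸ hz₀N)

end Cfsg.Agent.Suzuki2
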